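import Cfsg.Agent.Lib.SlimSp.Step

/-!
The cosets of the stabiliser of a basis vector: the group generated by the slim amalgam maps bijectively.
-/

set_option autoImplicit false
set_option linter.unusedSectionVars false

open Matrix

namespace Cfsg.Agent.SlimSp

open Cfsg.Agent.CurtisTitsD.Bruhat (cj mem_cj conj_mem_cj)

variable {N : ℕ} {F : Type*} [Field F] {K : Type*} [Group K] {π : K →* Spg N F}
  {o p : Fin N} {P : Fin N → Prop} (C : Ctx π o p P)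

namespace Ctx

include C

/-- The rotation. -/
noncomputable def w : K := (C.exists_S (Wo_mem o)).choose

theorem w_mem : C.w ∈ C.S0 := (C.exists_S (Wo_mem o)).choose_spec.1

theorem map_w : π C.w = Wo o := (C.exists_S (Wo_mem o)).choose_spec.2

/-- A toral element with its scalar. -/
def Dg (h : K) (l : F) : Prop :=
  h ∈ C.S0 ∧ l ≠ 0 ∧ act (π h) (ve o) = l • ve o ∧ act (π h) (vf o) = l⁻¹ • vf o

theorem S0_ext {x y : K} (hx : x ∈ C.S0) (hy : y ∈ C.S0) (he : act (π x) (ve o) = act (π y) (ve o))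
    (hf : act (π x) (vf o) = act (π y) (vf o)) : x = y := by
  refine C.injA.eq (C.S_RA hx) (C.S_RA hy) (act_ext_basis (fun k => ?_) fun k => ?_) <;> by_cases hk : k = o
  · exact hk ▸ he
  · rw [(C.S_fix hx hk).1, (C.S_fix hy hk).1]
  · exact hk ▸ hf
  · rw [(C.S_fix hx hk).2, (C.S_fix hy hk).2]

theorem Dg_one : C.Dg 1 1 := ⟨one_mem _, one_ne_zero, by simp [act_one], by simp [act_one]⟩

theorem Dg_mul {h h' : K} {l l' : F} (a : C.Dg h l) (b : C.Dg h' l') : C.Dg (h * h') (l * l') := by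
  refine ⟨mul_mem a.1 b.1, mul_ne_zero a.2.1 b.2.1, ?_, ?_⟩
  · rw [map_mul, act_mul, b.2.2.1, act_smul, a.2.2.1, smul_smul, mul_comm]
  · rw [map_mul, act_mul, b.2.2.2, act_smul, a.2.2.2, smul_smul, mul_inv, mul_comm]

theorem Dg_inv {h : K} {l : F} (a : C.Dg h l) : C.Dg h⁻¹ l⁻¹ := by
  refine ⟨inv_mem a.1, inv_ne_zero a.2.1, ?_, ?_⟩
  · rw [map_inv]
    exact act_inv_eq (by rw [act_smul, a.2.2.1, smul_smul, inv_mul_cancel₀ a.2.1, one_smul])
  · rw [map_inv, inv_inv]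
    exact act_inv_eq (by rw [act_smul, a.2.2.2, smul_smul, mul_inv_cancel₀ a.2.1, one_smul])

theorem Dg_w {h : K} {l : F} (a : C.Dg h l) : C.Dg (C.w * h * C.w⁻¹) l⁻¹ := by
  refine ⟨mul_mem (mul_mem C.w_mem a.1) (inv_mem C.w_mem), inv_ne_zero a.2.1, ?_, ?_⟩
  · rw [map_mul, map_mul, map_inv, C.map_w, act_mul, act_mul, act_Wo_inv_ve, act_neg, a.2.2.2,
      act_neg, act_smul, act_Wo_vf]
    module
  · rw [map_mul, map_mul, map_inv, C.map_w, act_mul, act_mul, act_Wo_inv_vf, a.2.2.1, act_smul,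
      act_Wo_ve, inv_inv]

theorem Dg_w' {h : K} {l : F} (a : C.Dg h l) : C.Dg (C.w⁻¹ * h * C.w) l⁻¹ := by
  refine ⟨mul_mem (mul_mem (inv_mem C.w_mem) a.1) C.w_mem, inv_ne_zero a.2.1, ?_, ?_⟩
  · rw [map_mul, map_mul, map_inv, C.map_w, act_mul, act_mul, act_Wo_ve, a.2.2.2, act_smul,
      act_Wo_inv_vf]
  · rw [map_mul, map_mul, map_inv, C.map_w, act_mul, act_mul, act_Wo_vf, act_neg, a.2.2.1, act_neg,
      act_smul, act_Wo_inv_ve, inv_inv]
    module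

theorem Dg_ww : C.Dg (C.w * C.w) (-1) := by
  refine ⟨mul_mem C.w_mem C.w_mem, neg_ne_zero.2 one_ne_zero, ?_, ?_⟩
  · rw [map_mul, C.map_w, act_mul, act_Wo_ve, act_Wo_vf]; module
  · rw [map_mul, C.map_w, act_mul, act_Wo_vf, act_neg, act_Wo_ve, inv_neg, inv_one]; module

theorem exists_Dg {l : F} (hl : l ≠ 0) : ∃ h, C.Dg h l := by
  obtain ⟨A, hA, e1, e2⟩ := exists_move_pair (supp_ve_self o) (supp_vf_self o)
    (supp_smul l (supp_ve_self o)) (supp_smul l⁻¹ (supp_vf_self o)) (om_ve_vf o)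
    (by rw [om_smul_left, om_smul_right, om_ve_vf, mul_one, mul_inv_cancel₀ hl])
  obtain ⟨h, hh, rfl⟩ := C.exists_S hA
  exact ⟨h, hh, hl, e1, e2⟩

theorem phi_one_eq : C.phi (ve p) = C.e1 := by
  rw [C.phi_eq (one_mem _) (by rw [map_one, act_one]), one_mul, inv_one, mul_one]

theorem Dg_phi {h : K} {l : F} (a : C.Dg h l) {u : Vc N F} (hu : Supp P u) :
    h * C.phi u * h⁻¹ = C.phi (l • u) := by
  by_cases hne : u = 0
  · rw [hne, smul_zero, C.phi_zero, mul_one, mul_inv_cancel]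
  have hb : h * C.e1 * h⁻¹ = C.phi (l • ve p) := by
    refine C.injA.eq (mul_mem (mul_mem (C.S_RA a.1) (C.M_RA C.e1_mem)) (inv_mem (C.S_RA a.1)))
      (C.M_RA (C.phi_p l)) ?_
    rw [map_mul, map_mul, map_inv, C.map_e1, El_conj _ (C.om_o (supp_ve C.hp)), a.2.2.1,
      (C.S_fix a.1 C.hne.symm).1, El_smul (C.om_o (supp_ve C.hp)), C.map_phi (supp_smul l (supp_ve C.hp))]
  obtain ⟨g, hg, e⟩ := C.exists_rep hu hne
  rw [C.phi_eq hg e, show h * (g * C.e1 * g⁻¹) * h⁻¹ = (h * g) * C.e1 * (h * g)⁻¹ by group,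
    (C.comm g hg h a.1).eq.symm, show g * h * C.e1 * (g * h)⁻¹ = g * (h * C.e1 * h⁻¹) * g⁻¹ by group,
    hb, C.phi_conj hg (supp_smul l (supp_ve C.hp)), act_smul, e]

theorem Dg_ez {h : K} {l : F} (a : C.Dg h l) (z : F) : h * C.ez z * h⁻¹ = C.ez (l * l * z) := by
  refine C.injA.eq (C.S_RA (mul_mem (mul_mem a.1 (C.ez_mem z)) (inv_mem a.1))) (C.S_RA (C.ez_mem _)) ?_
  rw [map_mul, map_mul, map_inv, C.map_ez, El_conj _ (om_zero_right _), a.2.2.1, act_zero, El_zero_smul,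
    C.map_ez]

/-- The conjugate of a short root element. -/
noncomputable def aa (k : F) : K := C.w⁻¹ * C.phi (k • ve p) * C.w

theorem aa_RA (k : F) : C.aa k ∈ C.RA :=
  mul_mem (mul_mem (C.S_RA (inv_mem C.w_mem)) (C.M_RA (C.phi_p k))) (C.S_RA C.w_mem)

theorem act_w_fix {v : Vc N F} (hv : Supp P v) : act (π C.w) v = v := by
  funext i
  rcases i with k | k <;> by_cases hk : k = o
  · subst hk
    have h := om_act (π C.w) v (-ve k)
    rw [show act (π C.w) (-ve k) = -vf k by rw [act_neg, C.map_w, act_Wo_ve], om_neg_right,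
      om_neg_right, om_vf_right, om_ve_right, (hv k C.ho).2, neg_zero, neg_zero, neg_eq_zero] at h
    rw [h, (hv k C.ho).1]
  · exact act_fix_of_inr _ (C.S_fix C.w_mem hk).2 v
  · subst hk
    have h := om_act (π C.w) v (vf k)
    rw [C.map_w, act_Wo_vf, ← C.map_w, om_neg_right, om_ve_right, neg_neg, om_vf_right,
      (hv k C.ho).1] at h
    rw [h, (hv k C.ho).2]
  · exact act_fix_of_inl _ (C.S_fix C.w_mem hk).1 v

theorem act_winv_fix {v : Vc N F} (hv : Supp P v) : act (π C.w)⁻¹ v = v :=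
  act_inv_eq (C.act_w_fix hv)

theorem act_winv_phi_w {u : Vc N F} (hu : Supp P u) :
    act (π (C.w⁻¹ * C.phi u * C.w)) (ve o) = ve o + u := by
  rw [map_mul, map_mul, map_inv, act_mul, act_mul, C.map_phi hu, C.map_w, act_Wo_ve, (C.act_o hu 0).2,
    zero_smul, add_zero, act_add, act_Wo_inv_vf, ← C.map_w, C.act_winv_fix hu]

variable (hF : ∃ a : F, a ≠ 0 ∧ a ≠ 1)
include hF

theorem act_aa : act (π (C.aa 1)) (ve o) = ve o + ve p := by
  rw [aa, one_smul]; exact C.act_winv_phi_w (supp_ve C.hp)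

theorem Dg_Q {h : K} {l : F} (a : C.Dg h l) {q : K} (hq : q ∈ C.Q hF) : h * q * h⁻¹ ∈ C.Q hF := by
  obtain ⟨g, hg, _, ⟨u, hu, z, rfl⟩, rfl⟩ := hq
  rw [show h * (g * (C.phi u * C.ez z)) * h⁻¹ = (h * g * h⁻¹) * ((h * C.phi u * h⁻¹) * (h * C.ez z * h⁻¹)) by group,
    C.Dg_phi a hu, C.Dg_ez a, ← (C.comm g hg h a.1).eq, mul_inv_cancel_right]
  exact ⟨g, hg, _, ⟨_, supp_smul l hu, _, rfl⟩, rfl⟩

/-- The representative of the vectors without components in the first plane. -/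
noncomputable def rr : K := C.phi (vf p) * C.aa 1

theorem act_rr : act (π C.rr) (ve o) = ve p := by
  rw [rr, map_mul, act_mul, C.act_aa hF, act_add, C.map_phi (supp_vf C.hp),
    (C.act_o (supp_vf C.hp) 0).1, act_El (C.om_o (supp_vf C.hp)),
    C.om_o (supp_ve C.hp), om_vf_ve]
  module

theorem exists_sM (c : F) : ∃ y, y ∈ C.M ∧ y ∈ C.Sp1 ∧ π y = El (ve p) 0 c := by
  obtain ⟨y, hy, e⟩ := C.exists_M (A := El (ve p) 0 c) (El_ve_mem_DM (Or.inr rfl) ⟨0, (zero_smul F _).symm⟩ _)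
  obtain ⟨s, hs, e'⟩ := C.exists_Sp (A := El (ve p) 0 c) (El_mem_Fx (supp_ve_self _) supp_zero _)
  exact ⟨y, hy, C.injB.eq (C.M_RB hy) (C.Sp_RB hs) (e.trans e'.symm) ▸ hs, e⟩

/-- The generators of the rank one group. -/
noncomputable def V : Subgroup K :=
  Subgroup.closure (Set.range C.ez ∪ Set.range fun z => C.w⁻¹ * C.ez z * C.w)

theorem map_X (z : F) : π (C.w⁻¹ * C.ez z * C.w) = El (vf o) 0 z := by
  rw [map_mul, map_mul, map_inv, C.map_ez, C.map_w]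
  nth_rw 2 [← inv_inv (Wo o)]
  rw [El_conj _ (om_zero_right _), act_Wo_inv_ve, act_zero, El_neg_zero]

theorem S0_le_V : C.S0 ≤ C.V := by
  have hVS : C.V ≤ C.S0 := (Subgroup.closure_le _).2 (by
    rintro _ (⟨z, rfl⟩ | ⟨z, rfl⟩)
    exacts [C.ez_mem z, mul_mem (mul_mem (inv_mem C.w_mem) (C.ez_mem z)) C.w_mem])
  have hez : ∀ z, C.ez z ∈ C.V := fun z => Subgroup.subset_closure (Or.inl ⟨z, rfl⟩)
  have hX : ∀ z, C.w⁻¹ * C.ez z * C.w ∈ C.V := fun z => Subgroup.subset_closure (Or.inr ⟨z, rfl⟩)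
  have hw : C.w ∈ C.V := by
    have hm := mul_mem (mul_mem (hX (-1)) (hez (-1))) (hX (-1))
    rwa [C.injA.eq (C.S_RA C.w_mem) (C.S_RA (hVS hm))
      (by rw [map_mul, map_mul, C.map_X hF, C.map_ez, C.map_w]; rfl)]
  have hto : ∀ b : F, b ≠ 0 → ∃ y ∈ C.V, act (π y) (ve o) = b • vf o := fun b hb => by
    refine ⟨_, mul_mem (mul_mem (hX (-b)) (hez (-b)⁻¹)) (hX (-b)), ?_⟩
    rw [map_mul, map_mul, C.map_X hF, C.map_ez, act_mul, act_mul, act_El_zero, act_El_zero, act_El_zero]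
    simp only [om_add_right, om_smul_right, om_self, om_vf_ve, om_ve_vf]
    match_scalars <;> field_simp <;> ring
  intro x hx
  obtain ⟨v, hv⟩ : ∃ v, v = act (π x) (ve o) := ⟨_, rfl⟩
  have hvo : v = v (Sum.inl o) • ve o + v (Sum.inr o) • vf o := by
    funext i
    rcases i with k | k <;> by_cases hk : k = o
    · subst hk; simp [ve, vf]
    · rw [hv, act_fix_of_inr _ (C.S_fix hx hk).2]; simp [ve, vf, hk]
    · subst hk; simp [ve, vf]
    · rw [hv, act_fix_of_inl _ (C.S_fix hx hk).1]; simp [ve, vf, hk]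
  obtain ⟨y, hy, hye⟩ : ∃ y ∈ C.V, act (π y) (ve o) = v := by
    by_cases hb : v (Sum.inr o) = 0
    · have ha : v (Sum.inl o) ≠ 0 := fun ha => by
        rw [ha, hb, zero_smul, zero_smul, add_zero] at hvo
        refine ve_ne_zero (F := F) o ?_
        rw [← act_inv_cancel (π x) (ve o), ← hv, hvo, act_zero]
      obtain ⟨y, hy, hye⟩ := hto _ ha
      refine ⟨C.w⁻¹ * y, mul_mem (inv_mem hw) hy, ?_⟩
      conv_rhs => rw [hvo, hb, zero_smul, add_zero]
      rw [map_mul, map_inv, C.map_w, act_mul, hye, act_smul, act_Wo_inv_vf]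
    · obtain ⟨y, hy, hye⟩ := hto _ hb
      refine ⟨C.ez (v (Sum.inl o) / v (Sum.inr o)) * y, mul_mem (hez _) hy, ?_⟩
      conv_rhs => rw [hvo]
      rw [map_mul, act_mul, hye, act_smul, C.map_ez, (C.act_o supp_zero _).2, add_zero, smul_add,
        smul_smul, mul_div_cancel₀ _ hb]
      module
  obtain ⟨t, ht⟩ : ∃ t, t = y⁻¹ * x := ⟨_, rfl⟩
  have htS : t ∈ C.S0 := ht ▸ mul_mem (inv_mem (hVS hy)) hx
  have hte : act (π t) (ve o) = ve o := by
    rw [ht, map_mul, map_inv, act_mul, ← hv]; exact act_inv_eq hye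
  have : t = C.ez (act (π t) (vf o) (Sum.inl o)) := by
    refine C.S0_ext htS (C.ez_mem _) (by rw [hte, C.map_ez, (C.act_o supp_zero _).1]) ?_
    rw [C.map_ez, (C.act_o supp_zero _).2, add_zero]
    funext i
    rcases i with k | k <;> by_cases hk : k = o
    · subst hk; simp [ve, vf]
    · rw [act_fix_of_inr _ (C.S_fix htS hk).2]; simp [ve, vf, hk]
    · subst hk; rw [act_fix_of_inl _ hte]; simp [ve, vf]
    · rw [act_fix_of_inl _ (C.S_fix htS hk).1]; simp [ve, vf, hk]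
  have hxy : x = y * t := by rw [ht, mul_inv_cancel_left]
  rw [hxy]
  exact mul_mem hy (this ▸ hez _)

/-- The rank one group is moved into the stabiliser. -/
theorem rr_conj {x : K} (hx : x ∈ C.S0) : C.rr⁻¹ * x * C.rr ∈ C.Q hF := by
  have hx' := C.S0_le_V hF hx
  clear hx
  induction hx' using Subgroup.closure_induction with
  | one => rw [mul_one, inv_mul_cancel]; exact one_mem _
  | mul x y _ _ hx hy =>
    rw [show C.rr⁻¹ * (x * y) * C.rr = (C.rr⁻¹ * x * C.rr) * (C.rr⁻¹ * y * C.rr) by group]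
    exact mul_mem hx hy
  | inv x _ hx =>
    rw [show C.rr⁻¹ * x⁻¹ * C.rr = (C.rr⁻¹ * x * C.rr)⁻¹ by group]
    exact inv_mem hx
  | mem x hx =>
    rcases hx with ⟨z, rfl⟩ | ⟨z, rfl⟩
    · rw [rr, show (C.phi (vf p) * C.aa 1)⁻¹ * C.ez z * (C.phi (vf p) * C.aa 1) =
        (C.aa 1)⁻¹ * ((C.phi (vf p))⁻¹ * (C.ez z * C.phi (vf p))) * C.aa 1 by group,
        (C.ez_phi (supp_vf C.hp) z).eq, inv_mul_cancel_left]
      refine C.RA_Q hF (mul_mem (mul_mem (inv_mem (C.aa_RA 1)) (C.S_RA (C.ez_mem z))) (C.aa_RA 1)) ?_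
      rw [map_mul, map_mul, map_inv, act_mul, act_mul, C.act_aa hF]
      refine act_inv_eq ?_
      rw [C.act_aa hF, C.map_ez, act_El_zero, om_add_right, om_self, C.om_o (supp_ve C.hp)]
      module
    · obtain ⟨wp, hwp, ewp⟩ := C.exists_Sp (Wo_mem (F := F) p)
      have hwpG := C.sp_le hwp
      have hphi : ∀ k : F, C.phi (k • vf p) ∈ cj wp C.RA := fun k => by
        have h := conj_mem_cj wp (C.M_RA (C.phi_p k))
        rwa [C.phi_conj hwpG (supp_smul k (supp_ve C.hp)), act_smul, ewp, act_Wo_ve] at h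
      have hS1 : ∀ y ∈ C.S0, y ∈ cj wp C.RA := fun y hy => by
        rw [mem_cj, mul_assoc, ← (C.comm wp hwpG y hy).eq, inv_mul_cancel_left]; exact C.S_RA hy
      obtain ⟨X, hX⟩ : ∃ X, X = C.w⁻¹ * C.ez z * C.w := ⟨_, rfl⟩
      have hXS : X ∈ C.S0 := hX ▸ mul_mem (mul_mem (inv_mem C.w_mem) (C.ez_mem z)) C.w_mem
      obtain ⟨y, hyM, hySp, ey⟩ := C.exists_sM hF z
      obtain ⟨s, hs⟩ : ∃ s, s = wp * y * wp⁻¹ := ⟨_, rfl⟩
      have hsSp : s ∈ C.Sp1 := hs ▸ mul_mem (mul_mem hwp hySp) (inv_mem hwp)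
      have hsR1 : s ∈ cj wp C.RA := hs ▸ conj_mem_cj wp (C.M_RA hyM)
      have esπ : π s = El (vf p) 0 z := by
        rw [hs, map_mul, map_mul, map_inv, ey, ewp, El_conj _ (om_zero_right _), act_Wo_ve, act_zero]
      obtain ⟨b, hb⟩ : ∃ b, b = C.w⁻¹ * C.phi (z • vf p) * C.w := ⟨_, rfl⟩
      have hbR1 : b ∈ cj wp C.RA :=
        hb ▸ mul_mem (mul_mem (inv_mem (hS1 _ C.w_mem)) (hphi z)) (hS1 _ C.w_mem)
      have hf1 : C.phi (vf p) ∈ cj wp C.RA := by simpa using hphi 1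
      have hf := C.supp_plane (supp_vf_self (F := F) p)
      have hid : (C.phi (vf p))⁻¹ * X * C.phi (vf p) = b * X * s := by
        refine (C.injA.conj wp).eq (mul_mem (mul_mem (inv_mem hf1) (hS1 _ hXS)) hf1)
          (mul_mem (mul_mem hbR1 (hS1 _ hXS)) hsR1) ?_
        have hbπ : π b = El (vf o) ((-z) • vf p) 0 := by
          have h0 : om (vf o) (z • vf p : Vc N F) = 0 :=
            (om_eq_zero_of_supp C.ho (supp_smul z hf)).2.1
          rw [hb, map_mul, map_mul, map_inv, C.map_phi (supp_smul z hf), C.map_w]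
          nth_rw 2 [← inv_inv (Wo o)]
          rw [El_conj _ (C.om_o (supp_smul z hf)), act_Wo_inv_ve, ← C.map_w,
            C.act_winv_fix (supp_smul z hf), ← neg_one_smul F (vf o : Vc N F), El_smul h0, smul_smul,
            neg_one_mul]
        have h1 : om (vf o) ((-z) • vf p : Vc N F) = 0 :=
          (om_eq_zero_of_supp C.ho (supp_smul _ hf)).2.1
        have h2 : om (vf o) (-vf p : Vc N F) = 0 := (om_eq_zero_of_supp C.ho (supp_neg hf)).2.1
        rw [map_mul, map_mul, map_inv, C.map_phi hf, map_mul, map_mul, hbπ, esπ, hX, C.map_X hF,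
          El_mul h1 (om_zero_right _), add_zero ((-z) • vf p : Vc N F), om_zero_right, zero_add, add_zero]
        rw [El_inv (C.om_o hf), neg_zero]
        have hEinv : El (ve o) (vf p) (0 : F) = (El (ve o) (-vf p) 0)⁻¹ := by
          rw [El_inv (C.om_o (supp_neg hf)), neg_neg, neg_zero]
        rw [hEinv, El_conj _ (om_zero_right _), act_zero, (C.act_o (supp_neg hf) 0).2, zero_smul,
          add_zero, El_split h2, smul_neg, ← neg_smul, El_neg_zero]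
      show C.rr⁻¹ * (C.w⁻¹ * C.ez z * C.w) * C.rr ∈ C.Q hF
      rw [← hX]
      obtain ⟨R2, hR2⟩ : ∃ R2, R2 = cj C.w⁻¹ C.RB := ⟨_, rfl⟩
      have hR : ∀ {g : K}, g ∈ C.RB → C.w⁻¹ * g * C.w ∈ R2 := fun {g} hg => by
        rw [hR2, mem_cj]; simpa [mul_assoc] using hg
      have hSp2 : ∀ g ∈ C.Sp1, g ∈ R2 := fun g hg => by
        have h := hR (C.Sp_RB hg)
        rwa [mul_assoc, (C.comm g (C.sp_le hg) _ C.w_mem).eq, inv_mul_cancel_left] at h
      have hT : C.rr⁻¹ * X * C.rr = (C.aa 1)⁻¹ * (b * X * s) * C.aa 1 := by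
        rw [← hid, rr]; group
      have haR : C.aa 1 ∈ R2 := hR (C.M_RB (C.phi_p 1))
      have hmem : C.rr⁻¹ * X * C.rr ∈ R2 := by
        rw [hT]
        exact mul_mem (mul_mem (inv_mem haR) (mul_mem (mul_mem
          (hb ▸ hR (C.phi_plane (supp_smul z (supp_vf_self p))))
          (hX ▸ hR (C.M_RB (C.ez_mem_M z)))) (hSp2 s hsSp))) haR
      have hfixe : act (π (C.rr⁻¹ * X * C.rr)) (ve o) = ve o := by
        rw [map_mul, map_mul, map_inv, act_mul, act_mul, C.act_rr hF, (C.S_fix hXS C.hne.symm).1]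
        exact act_inv_eq (C.act_rr hF)
      obtain ⟨T, hTd⟩ : ∃ T, T = C.rr⁻¹ * X * C.rr := ⟨_, rfl⟩
      rw [← hTd] at hmem hfixe ⊢
      have hm' : C.w * T * C.w⁻¹ ∈ C.RB := by
        rw [hR2, mem_cj, inv_inv] at hmem; exact hmem
      obtain ⟨hA1, hA2⟩ := C.RB_fix hm'
      have hfixf : act (π T) (vf o) = vf o := by
        rw [map_mul, map_mul, map_inv, C.map_w, act_mul, act_mul, act_Wo_inv_ve, act_neg, act_neg] at hA2
        have h' := congrArg (act (Wo o)⁻¹) hA2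
        rwa [act_neg, act_inv_cancel, act_Wo_inv_ve, neg_inj] at h'
      have hFp : π T ∈ Fx (fun k => k = p) := fun k hk => by
        by_cases hko : k = o
        · exact hko ▸ ⟨hfixe, hfixf⟩
        obtain ⟨h1, h2⟩ := hA1 k (not_or.2 ⟨hko, hk⟩)
        rw [map_mul, map_mul, map_inv, act_mul, act_mul] at h1 h2
        have e1 : act (π C.w)⁻¹ (ve k) = ve k := act_inv_eq (C.S_fix C.w_mem hko).1
        have e2 : act (π C.w)⁻¹ (vf k) = vf k := act_inv_eq (C.S_fix C.w_mem hko).2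
        rw [e1] at h1; rw [e2] at h2
        have h1' := congrArg (act (π C.w)⁻¹) h1
        have h2' := congrArg (act (π C.w)⁻¹) h2
        rw [act_inv_cancel, e1] at h1'; rw [act_inv_cancel, e2] at h2'
        exact ⟨h1', h2'⟩
      obtain ⟨g, hg, eg⟩ := C.exists_Sp hFp
      rw [((hR2 ▸ C.injB.conj C.w⁻¹ : Inj π R2)).eq hmem (hSp2 g hg) eg.symm]
      exact C.G_Q hF (C.sp_le hg)

/-- The cells. -/
def cells : Set K :=
  {g | (∃ n ∈ C.U hF, ∃ h l, C.Dg h l ∧ ∃ q ∈ C.Q hF, g = n * h * C.w * q) ∨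
    (∃ u, Supp P u ∧ ∃ h l, C.Dg h l ∧ ∃ q ∈ C.Q hF, g = C.w⁻¹ * C.phi u * C.w * h * q) ∨
    ∃ x ∈ C.G1, ∃ q ∈ C.Q hF, g = x * C.rr * q}

theorem cellA {n h : K} {l : F} (hn : n ∈ C.U hF) (a : C.Dg h l) {q : K} (hq : q ∈ C.Q hF) :
    n * h * C.w * q ∈ C.cells hF := Or.inl ⟨n, hn, h, l, a, q, hq, rfl⟩

theorem cellB {u : Vc N F} (hu : Supp P u) {h : K} {l : F} (a : C.Dg h l) {q : K} (hq : q ∈ C.Q hF) :
    C.w⁻¹ * C.phi u * C.w * h * q ∈ C.cells hF := Or.inr (Or.inl ⟨u, hu, h, l, a, q, hq, rfl⟩)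

theorem cellC {x q : K} (hx : x ∈ C.G1) (hq : q ∈ C.Q hF) : x * C.rr * q ∈ C.cells hF :=
  Or.inr (Or.inr ⟨x, hx, q, hq, rfl⟩)

theorem Q_cells {q : K} (hq : q ∈ C.Q hF) : q ∈ C.cells hF := by
  have := C.cellB hF supp_zero C.Dg_one hq
  simpa [C.phi_zero] using this

theorem cells_Q {g q : K} (hg : g ∈ C.cells hF) (hq : q ∈ C.Q hF) : g * q ∈ C.cells hF := by
  rcases hg with ⟨n, hn, h, l, a, q', hq', rfl⟩ | ⟨u, hu, h, l, a, q', hq', rfl⟩ | ⟨x, hx, q', hq', rfl⟩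
  · rw [mul_assoc]; exact C.cellA hF hn a (mul_mem hq' hq)
  · rw [mul_assoc]; exact C.cellB hF hu a (mul_mem hq' hq)
  · rw [mul_assoc]; exact C.cellC hF hx (mul_mem hq' hq)

theorem G_cells {x g : K} (hx : x ∈ C.G1) (hg : g ∈ C.cells hF) : x * g ∈ C.cells hF := by
  rcases hg with ⟨n, hn, h, l, a, q, hq, rfl⟩ | ⟨u, hu, h, l, a, q, hq, rfl⟩ | ⟨y, hy, q, hq, rfl⟩
  · rw [show x * (n * h * C.w * q) = x * n * x⁻¹ * ((x * (h * C.w)) * q) by group,
      (C.comm x hx _ (mul_mem a.1 C.w_mem)).eq,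
      show x * n * x⁻¹ * (h * C.w * x * q) = (x * n * x⁻¹) * h * C.w * (x * q) by group]
    exact C.cellA hF (C.conj_U hF hx hn) a (mul_mem (C.G_Q hF hx) hq)
  · rw [show x * (C.w⁻¹ * C.phi u * C.w * h * q) =
      (x * C.w⁻¹) * (C.phi u * (C.w * h)) * q by group, (C.comm x hx _ (inv_mem C.w_mem)).eq,
      show C.w⁻¹ * x * (C.phi u * (C.w * h)) * q = C.w⁻¹ * (x * C.phi u * x⁻¹) * (x * (C.w * h)) * q by group,
      (C.comm x hx _ (mul_mem C.w_mem a.1)).eq, C.phi_conj hx hu,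
      show ∀ v, C.w⁻¹ * v * (C.w * h * x) * q = C.w⁻¹ * v * C.w * h * (x * q) from fun v => by group]
    exact C.cellB hF (supp_act (C.G_Fx hx) hu) a (mul_mem (C.G_Q hF hx) hq)
  · rw [show x * (y * C.rr * q) = x * y * C.rr * q by group]
    exact C.cellC hF (mul_mem hx hy) hq

theorem S0_cellC {s x q : K} (hs : s ∈ C.S0) (hx : x ∈ C.G1) (hq : q ∈ C.Q hF) :
    s * (x * C.rr * q) ∈ C.cells hF := by
  rw [← mul_assoc, ← mul_assoc, ← (C.comm x hx s hs).eq,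
    show x * s * C.rr * q = x * C.rr * ((C.rr⁻¹ * s * C.rr) * q) by group]
  exact C.cellC hF hx (mul_mem (C.rr_conj hF hs) hq)

theorem Dg_cells {h g : K} {l : F} (a : C.Dg h l) (hg : g ∈ C.cells hF) : h * g ∈ C.cells hF := by
  rcases hg with ⟨n, hn, h', l', a', q, hq, rfl⟩ | ⟨u, hu, h', l', a', q, hq, rfl⟩ | ⟨y, hy, q, hq, rfl⟩
  · obtain ⟨u, hu, z, rfl⟩ := hn
    rw [show h * (C.phi u * C.ez z * h' * C.w * q) =
      ((h * C.phi u * h⁻¹) * (h * C.ez z * h⁻¹)) * (h * h') * C.w * q by group, C.Dg_phi a hu, C.Dg_ez a]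
    exact C.cellA hF ⟨_, supp_smul l hu, _, rfl⟩ (C.Dg_mul a a') hq
  · rw [show h * (C.w⁻¹ * C.phi u * C.w * h' * q) =
      C.w⁻¹ * ((C.w * h * C.w⁻¹) * C.phi u * (C.w * h * C.w⁻¹)⁻¹) * C.w * (h * h') * q by group,
      C.Dg_phi (C.Dg_w a) hu]
    exact C.cellB hF (supp_smul _ hu) (C.Dg_mul a a') hq
  · exact C.S0_cellC hF a.1 hy hq

theorem RA_cells {g : K} (hg : g ∈ C.RA) : g ∈ C.cells hF := by
  obtain ⟨h1, h2⟩ := C.RA_fix hg
  obtain ⟨v, hv⟩ : ∃ v, v = act (π g) (ve o) := ⟨_, rfl⟩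
  have hvp : v (Sum.inr p) = 0 := by
    rw [hv, act_fix_of_inl _ h2]; simp [ve]
  have hdec : v = v (Sum.inl o) • ve o + v (Sum.inr o) • vf o + v (Sum.inl p) • ve p := by
    funext i
    rcases i with k | k <;> by_cases hk : k = o
    · subst hk; simp [ve, vf, C.hne]
    · by_cases hkp : k = p
      · subst hkp; simp [ve, vf, C.hne.symm]
      · rw [hv, act_fix_of_inr _ (h1 k (not_or.2 ⟨hk, hkp⟩)).2]; simp [ve, vf, hk, hkp]
    · subst hk; simp [ve, vf]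
    · by_cases hkp : k = p
      · subst hkp; rw [hvp]; simp [ve, vf, C.hne.symm]
      · rw [hv, act_fix_of_inl _ (h1 k (not_or.2 ⟨hk, hkp⟩)).1]; simp [ve, vf, hk]
  have fin : ∀ a0 ∈ C.RA, a0 ∈ C.cells hF → act (π a0) (ve o) = v → g ∈ C.cells hF := fun a0 ha hc e => by
    have hq : a0⁻¹ * g ∈ C.Q hF := C.RA_Q hF (mul_mem (inv_mem ha) hg) (by
      rw [map_mul, map_inv, act_mul, ← hv]; exact act_inv_eq e)
    have := C.cells_Q hF hc hq
    rwa [mul_inv_cancel_left] at this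
  by_cases hb : v (Sum.inr o) = 0
  · have ha : v (Sum.inl o) ≠ 0 := fun ha => by
      rw [ha, hb, zero_smul, zero_smul, zero_add, zero_add] at hdec
      have e : act (π g)⁻¹ v = ve o := by rw [hv, act_inv_cancel]
      rw [hdec, act_smul, act_inv_eq h2] at e
      have := congrFun e (Sum.inl o)
      simp [ve, C.hne] at this
    obtain ⟨h, hD⟩ := C.exists_Dg ha
    have hs : Supp P ((v (Sum.inl p) / v (Sum.inl o)) • ve p : Vc N F) := supp_smul _ (supp_ve C.hp)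
    refine fin (C.w⁻¹ * C.phi ((v (Sum.inl p) / v (Sum.inl o)) • ve p) * C.w * h)
      (mul_mem (C.aa_RA _) (C.S_RA hD.1))
      (by have := C.cellB hF hs hD (one_mem _); rwa [mul_one] at this) ?_
    rw [map_mul, act_mul, hD.2.2.1, act_smul, C.act_winv_phi_w hs, smul_add, smul_smul,
      mul_div_cancel₀ _ ha]
    conv_rhs => rw [hdec, hb, zero_smul, add_zero]
  · obtain ⟨h, hD⟩ := C.exists_Dg (inv_ne_zero hb)
    have hs : Supp P ((v (Sum.inl p) / v (Sum.inr o)) • ve p : Vc N F) := supp_smul _ (supp_ve C.hp)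
    refine fin (C.phi ((v (Sum.inl p) / v (Sum.inr o)) • ve p) * C.ez (v (Sum.inl o) / v (Sum.inr o)) * h * C.w)
      (mul_mem (mul_mem (mul_mem (C.M_RA (C.phi_p _)) (C.M_RA (C.ez_mem_M _))) (C.S_RA hD.1)) (C.S_RA C.w_mem))
      (by
        have := C.cellA (n := C.phi ((v (Sum.inl p) / v (Sum.inr o)) • ve p) * C.ez (v (Sum.inl o) / v (Sum.inr o)))
          hF ⟨_, hs, _, rfl⟩ hD (one_mem _)
        rwa [mul_one] at this) ?_
    rw [map_mul, map_mul, map_mul, C.map_w, act_mul, act_mul, act_mul, act_Wo_ve, hD.2.2.2, inv_inv,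
      act_smul, C.map_ez, (C.act_o supp_zero _).2, add_zero, C.map_phi hs, act_smul, act_add, act_smul,
      (C.act_o hs 0).1, (C.act_o hs 0).2]
    conv_rhs => rw [hdec]
    match_scalars <;> field_simp <;> ring

theorem exists_k {u : Vc N F} (hu : Supp P u) :
    ∃ x ∈ C.G1, ∃ k : F, u = act (π x) (k • ve p) := by
  by_cases hne : u = 0
  · exact ⟨1, one_mem _, 0, by rw [zero_smul, act_zero, hne]⟩
  · obtain ⟨x, hx, e⟩ := C.exists_rep hu hne
    exact ⟨x, hx, 1, by rw [one_smul, e]⟩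

theorem ez_cells (z : F) {g : K} (hg : g ∈ C.cells hF) : C.ez z * g ∈ C.cells hF := by
  rcases hg with ⟨n, hn, h, l, a, q, hq, rfl⟩ | ⟨u, hu, h, l, a, q, hq, rfl⟩ | ⟨y, hy, q, hq, rfl⟩
  · rw [← mul_assoc, ← mul_assoc, ← mul_assoc]
    exact C.cellA hF (mul_mem (C.ez_mem_U hF z) hn) a hq
  · obtain ⟨x, hx, k, rfl⟩ := C.exists_k hF hu
    rw [← C.phi_conj hx (supp_smul k (supp_ve C.hp)),
      show C.ez z * (C.w⁻¹ * (x * C.phi (k • ve p) * x⁻¹) * C.w * h * q) =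
        (C.ez z * C.w⁻¹ * x) * C.phi (k • ve p) * ((x⁻¹ * (C.w * h)) * q) by group,
      ← (C.comm x hx _ (mul_mem (C.ez_mem z) (inv_mem C.w_mem))).eq,
      (C.comm x⁻¹ (inv_mem hx) _ (mul_mem C.w_mem a.1)).eq,
      show x * (C.ez z * C.w⁻¹) * C.phi (k • ve p) * (C.w * h * x⁻¹ * q) =
        x * ((C.ez z * C.aa k * h) * (x⁻¹ * q)) by rw [aa]; group]
    exact C.G_cells hF hx (C.cells_Q hF (C.RA_cells hF (mul_mem (mul_mem (C.S_RA (C.ez_mem z))
      (C.aa_RA k)) (C.S_RA a.1))) (mul_mem (C.G_Q hF (inv_mem hx)) hq))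
  · exact C.S0_cellC hF (C.ez_mem z) hy hq

theorem w_cells {g : K} (hg : g ∈ C.cells hF) : C.w * g ∈ C.cells hF := by
  rcases hg with ⟨n, hn, h, l, a, q, hq, rfl⟩ | ⟨u, hu, h, l, a, q, hq, rfl⟩ | ⟨y, hy, q, hq, rfl⟩
  · obtain ⟨u, hu, z, rfl⟩ := hn
    obtain ⟨x, hx, k, rfl⟩ := C.exists_k hF hu
    rw [← C.phi_conj hx (supp_smul k (supp_ve C.hp)),
      show C.w * (x * C.phi (k • ve p) * x⁻¹ * C.ez z * h * C.w * q) =
        (C.w * x) * C.phi (k • ve p) * ((x⁻¹ * (C.ez z * h * C.w)) * q) by group,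
      ← (C.comm x hx _ C.w_mem).eq,
      (C.comm x⁻¹ (inv_mem hx) _ (mul_mem (mul_mem (C.ez_mem z) a.1) C.w_mem)).eq,
      show x * C.w * C.phi (k • ve p) * (C.ez z * h * C.w * x⁻¹ * q) =
        x * ((C.w * C.phi (k • ve p) * C.ez z * h * C.w) * (x⁻¹ * q)) by group]
    exact C.G_cells hF hx (C.cells_Q hF (C.RA_cells hF (mul_mem (mul_mem (mul_mem (mul_mem
      (C.S_RA C.w_mem) (C.M_RA (C.phi_p k))) (C.S_RA (C.ez_mem z))) (C.S_RA a.1)) (C.S_RA C.w_mem)))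
      (mul_mem (C.G_Q hF (inv_mem hx)) hq))
  · rw [show C.w * (C.w⁻¹ * C.phi u * C.w * h * q) = C.phi u * (C.w * h * C.w⁻¹) * C.w * q by group]
    exact C.cellA hF (C.phi_mem_U hF hu) (C.Dg_w a) hq
  · exact C.S0_cellC hF C.w_mem hy hq

theorem winv_cells {g : K} (hg : g ∈ C.cells hF) : C.w⁻¹ * g ∈ C.cells hF := by
  rw [show C.w⁻¹ * g = (C.w * C.w)⁻¹ * (C.w * g) by group]
  exact C.Dg_cells hF (C.Dg_inv C.Dg_ww) (C.w_cells hF hg)

theorem act_cellA {n h : K} {l : F} (hn : n ∈ C.U hF) (a : C.Dg h l) {q : K} (hq : q ∈ C.Q hF) :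
    act (π (n * h * C.w * q)) (ve o) (Sum.inr o) ≠ 0 := by
  obtain ⟨u, hu, z, rfl⟩ := hn
  rw [map_mul, map_mul, map_mul, map_mul, C.map_w, act_mul, C.Q_fix hF hq, act_mul, act_Wo_ve, act_mul,
    a.2.2.2, act_smul, act_mul, C.map_ez, (C.act_o supp_zero _).2, add_zero, C.map_phi hu, act_add,
    act_smul, (C.act_o hu 0).1, (C.act_o hu 0).2]
  simp [ve, vf, (hu o C.ho).2, a.2.1]

theorem act_cellB {u : Vc N F} (hu : Supp P u) {h : K} {l : F} (a : C.Dg h l) {q : K}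
    (hq : q ∈ C.Q hF) :
    act (π (C.w⁻¹ * C.phi u * C.w * h * q)) (ve o) = l • ve o + l • u := by
  rw [map_mul, act_mul, C.Q_fix hF hq, map_mul, act_mul, a.2.2.1, act_smul, C.act_winv_phi_w hu, smul_add]

theorem act_cellC {x q : K} (hx : x ∈ C.G1) (hq : q ∈ C.Q hF) :
    Supp P (act (π (x * C.rr * q)) (ve o)) := by
  rw [map_mul, act_mul, C.Q_fix hF hq, map_mul, act_mul, C.act_rr hF]
  exact supp_act (C.G_Fx hx) (supp_ve C.hp)

theorem U_cellA {n g : K} (hn : n ∈ C.U hF) (hg : g ∈ C.cells hF)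
    (hb : act (π g) (ve o) (Sum.inr o) ≠ 0) : n * g ∈ C.cells hF := by
  rcases hg with ⟨n', hn', h, l, a, q, hq, rfl⟩ | ⟨u, hu, h, l, a, q, hq, rfl⟩ | ⟨y, hy, q, hq, rfl⟩
  · rw [← mul_assoc, ← mul_assoc, ← mul_assoc]
    exact C.cellA hF (mul_mem hn hn') a hq
  · refine absurd ?_ hb
    rw [C.act_cellB hF hu a hq]
    simp [ve, (hu o C.ho).2]
  · exact absurd (C.act_cellC hF hy hq o C.ho).2 hb

/-- The short root element on a vector of the second kind. -/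
theorem gen_cells (c : F) : C.phi (c • vf p) * C.aa 1 ∈ C.cells hF := by
  by_cases hc0 : c = 0
  · rw [hc0, zero_smul, C.phi_zero, one_mul]
    exact C.RA_cells hF (C.aa_RA 1)
  by_cases hc1 : c = 1
  · rw [hc1, one_smul]
    have := C.cellC hF (one_mem C.G1) (one_mem (C.Q hF))
    rwa [one_mul, mul_one] at this
  obtain ⟨A, hA, eA⟩ := exists_move (P := (fun k => k = p)) (supp_ve_self p)
    (supp_smul c (supp_vf_self p)) (ve_ne_zero (F := F) p) (smul_ne_zero hc0 (vf_ne_zero p))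
  obtain ⟨g, hg, rfl⟩ := C.exists_Sp hA
  have hgG := C.sp_le hg
  obtain ⟨d, hd⟩ : ∃ d, d = act (π g)⁻¹ (ve p) := ⟨_, rfl⟩
  have hds : Supp (fun k => k = p) d := hd ▸ supp_act (inv_mem hA) (supp_ve_self p)
  have hds' := C.supp_plane hds
  have hod : om (ve p) d = -c := by
    have h := om_act (π g) (ve p) d
    rw [eA, hd, act_cancel_inv, om_smul_left, om_vf_ve] at h
    rw [hd, ← h]; ring
  suffices H : C.e1 * (C.w⁻¹ * C.phi d * C.w) ∈ C.cells hF by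
    have H' := C.cells_Q hF (C.G_cells hF hgG H) (C.G_Q hF (inv_mem hgG))
    have hcg : g⁻¹ * C.aa 1 * g = C.w⁻¹ * C.phi d * C.w := by
      rw [aa, one_smul, show g⁻¹ * (C.w⁻¹ * C.phi (ve p) * C.w) * g =
        (g⁻¹ * C.w⁻¹) * C.phi (ve p) * (C.w * g) by group, (C.comm g⁻¹ (inv_mem hgG) _ (inv_mem C.w_mem)).eq,
        ← (C.comm g hgG _ C.w_mem).eq,
        show C.w⁻¹ * g⁻¹ * C.phi (ve p) * (g * C.w) = C.w⁻¹ * (g⁻¹ * C.phi (ve p) * g⁻¹⁻¹) * C.w by group,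
        C.phi_conj (inv_mem hgG) (supp_ve C.hp), map_inv, hd]
    rw [← hcg] at H'
    rw [C.phi_eq hgG eA, show g * C.e1 * g⁻¹ * C.aa 1 = g * (C.e1 * (g⁻¹ * C.aa 1 * g)) * g⁻¹ by group]
    exact H'
  obtain ⟨y, hyM, hySp, ey⟩ := C.exists_sM hF (1 : F)
  have hid : C.aa 1 * C.ez 1 * (C.aa 1)⁻¹ = C.ez 1 * C.e1 * y := by
    refine C.injA.eq (mul_mem (mul_mem (C.aa_RA 1) (C.S_RA (C.ez_mem 1))) (inv_mem (C.aa_RA 1)))
      (mul_mem (mul_mem (C.S_RA (C.ez_mem 1)) (C.M_RA C.e1_mem)) (C.M_RA hyM)) ?_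
    rw [map_mul, map_mul, map_inv, C.map_ez, El_conj _ (om_zero_right _), C.act_aa hF, act_zero,
      El_split (C.om_o (supp_ve C.hp)), one_smul, map_mul, map_mul, C.map_ez, C.map_e1, ey,
      El_mul (om_zero_right _) (C.om_o (supp_ve C.hp)), zero_add (ve p : Vc N F), om_zero_left, add_zero,
      add_zero]
  have he : C.e1 = C.ez (-1) * (C.aa 1 * C.ez 1 * (C.aa 1)⁻¹) * y⁻¹ := by
    rw [hid, ← mul_assoc, ← mul_assoc, C.ez_add, neg_add_cancel, C.ez_zero, one_mul, mul_inv_cancel_right]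
  obtain ⟨d', hd'⟩ : ∃ d', d' = act (π y)⁻¹ d := ⟨_, rfl⟩
  have hyG := C.sp_le hySp
  have hd's : Supp P d' := hd' ▸ supp_act (inv_mem (C.G_Fx hyG)) hds'
  have hd'v : d' = d + c • ve p := by
    rw [hd', ey, El_inv (om_zero_right _), neg_zero, act_El_zero, hod]; module
  have hyb : y⁻¹ * (C.w⁻¹ * C.phi d * C.w) = C.w⁻¹ * C.phi d' * C.w * y⁻¹ := by
    rw [show y⁻¹ * (C.w⁻¹ * C.phi d * C.w) = (y⁻¹ * C.w⁻¹) * C.phi d * C.w by group,
      (C.comm y⁻¹ (inv_mem hyG) _ (inv_mem C.w_mem)).eq,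
      show C.w⁻¹ * y⁻¹ * C.phi d * C.w = C.w⁻¹ * (y⁻¹ * C.phi d * y⁻¹⁻¹) * (y⁻¹ * C.w) by group,
      C.phi_conj (inv_mem hyG) hds', map_inv, ← hd', (C.comm y⁻¹ (inv_mem hyG) _ C.w_mem).eq]
    group
  obtain ⟨n0, hn0⟩ : ∃ n0, n0 = C.phi (-ve p) * C.phi d' := ⟨_, rfl⟩
  have hn0U : n0 ∈ C.U hF :=
    hn0 ▸ mul_mem (C.phi_mem_U hF (supp_neg (supp_ve C.hp))) (C.phi_mem_U hF hd's)
  obtain ⟨g2, hg2⟩ : ∃ g2, g2 = C.ez 1 * (C.w⁻¹ * (n0 * 1 * C.w * 1)) := ⟨_, rfl⟩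
  have hg2c : g2 ∈ C.cells hF :=
    hg2 ▸ C.ez_cells hF 1 (C.winv_cells hF (C.cellA hF hn0U C.Dg_one (one_mem _)))
  have hainv : (C.aa 1)⁻¹ = C.w⁻¹ * C.phi (-ve p) * C.w := by
    rw [aa, one_smul, ← C.phi_inv hF (supp_ve C.hp)]; group
  have key : C.e1 * (C.w⁻¹ * C.phi d * C.w) = C.ez (-1) * (C.w⁻¹ * (C.phi (ve p) * (C.w * g2))) * y⁻¹ := by
    rw [he, mul_assoc _ y⁻¹, hyb, hainv, hg2, hn0, aa, one_smul]
    group
  rw [key]
  refine C.cells_Q hF (C.ez_cells hF _ (C.winv_cells hF (C.U_cellA hF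
    (C.phi_mem_U hF (supp_ve C.hp)) (C.w_cells hF hg2c) ?_))) (C.G_Q hF (inv_mem hyG))
  have hs := supp_add (supp_neg (supp_ve (F := F) C.hp)) hd's
  have homd : om (-ve p) d' = c := by
    rw [hd'v, om_neg_left, om_add_right, hod, om_smul_right, om_self]; ring
  have ev : act (π g2) (ve o) = (ve o + (-ve p + d') - c • vf o) + (1 * -c) • ve o := by
    have hn0' : n0 = C.phi (-ve p + d') * C.ez c := by
      rw [hn0, C.phi_add hF (supp_neg (supp_ve C.hp)) hd's, homd]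
    rw [hg2, map_mul, act_mul, map_mul, act_mul, mul_one, mul_one, map_mul, act_mul, C.map_w, act_Wo_ve,
      hn0', map_mul, act_mul, C.map_ez, C.map_ez, (C.act_o supp_zero _).2, add_zero, C.map_phi hs, act_add, act_smul,
      (C.act_o hs 0).1, (C.act_o hs 0).2, zero_smul, add_zero, map_inv, C.map_w]
    simp only [act_add, act_smul, act_Wo_inv_vf, act_Wo_inv_ve]
    rw [← C.map_w, C.act_winv_fix (supp_neg (supp_ve C.hp)), C.act_winv_fix hd's]
    simp only [act_El_zero, om_neg_right, om_self, C.om_o hd's, C.om_o (supp_ve C.hp), om_ve_vf]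
    module
  have eo' : act (π (C.w * g2)) (ve o) (Sum.inr o) = act (π g2) (ve o) (Sum.inl o) := by
    have h := om_act (π C.w) (ve o) (act (π g2) (ve o))
    rw [map_mul, act_mul]
    rw [C.map_w, act_Wo_ve] at h
    have h' := om_act (π C.w) (-vf o) (act (π g2) (ve o))
    rw [C.map_w, act_neg, act_Wo_vf, neg_neg, om_ve_left, om_neg_left, om_vf_left, neg_neg] at h'
    rw [C.map_w]
    exact h'
  rw [eo', ev]
  simp [ve, vf, (hd's o C.ho).1, C.hne]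
  exact fun h => hc1 (by linear_combination -h)

theorem aa_comm {x : K} (hx : x ∈ C.G1) (he : act (π x) (ve p) = ve p) {m : K} (hm : m ∈ C.RA) :
    Commute x m := by
  have h : C.RA ≤ Subgroup.centralizer {x} := sup_le
    (fun y hy => Subgroup.mem_centralizer_singleton_iff.2 (C.hcM x hx he y hy).eq.symm)
    (fun y hy => Subgroup.mem_centralizer_singleton_iff.2 (C.comm x hx y hy).eq.symm)
  exact (Subgroup.mem_centralizer_singleton_iff.1 (h hm)).symm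

theorem aa_conj_phi {v : Vc N F} (hv : Supp P v) (h0 : om (ve p) v = 0) :
    (C.aa 1)⁻¹ * C.phi v * C.aa 1 ∈ C.Q hF := by
  rw [om_ve_left] at h0
  obtain ⟨m, hm⟩ : ∃ m, m = v (Sum.inl p) := ⟨_, rfl⟩
  obtain ⟨v2, hv2⟩ : ∃ v2, v2 = v - m • ve p := ⟨_, rfl⟩
  have hv2s : Supp P v2 := hv2 ▸ supp_sub hv (supp_smul m (supp_ve C.hp))
  have e1 : om (ve p) v2 = 0 := by rw [hv2, om_ve_left]; simp [ve, h0]
  have e2 : om (vf p) v2 = 0 := by rw [hv2, om_vf_left]; simp [ve, hm]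
  have hm_part : (C.aa 1)⁻¹ * C.phi (m • ve p) * C.aa 1 ∈ C.Q hF := by
    refine C.RA_Q hF (mul_mem (mul_mem (inv_mem (C.aa_RA 1)) (C.M_RA (C.phi_p m))) (C.aa_RA 1)) ?_
    rw [map_mul, map_mul, map_inv, act_mul, act_mul, C.act_aa hF]
    refine act_inv_eq ?_
    rw [C.act_aa hF, C.map_phi (supp_smul m (supp_ve C.hp)), act_add,
      (C.act_o (supp_smul m (supp_ve C.hp)) 0).1, act_El (C.om_o (supp_smul m (supp_ve C.hp))),
      C.om_o (supp_ve C.hp), om_smul_left, om_self]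
    module
  obtain ⟨c, hc0, hc1⟩ := id hF
  obtain ⟨x, hx, ex⟩ := C.exists_G (A := El (ve p) (c⁻¹ • v2) 0)
    (El_mem_Fx (supp_ve C.hp) (supp_smul _ hv2s) 0)
  have hxe : act (π x) (ve p) = ve p := by
    rw [ex, act_El (by rw [om_smul_right, e1, mul_zero]), om_self, om_smul_left, om_swap v2, e1]
    module
  have hxf : act (π x) (c • vf p) = c • vf p + v2 := by
    rw [ex, act_smul, act_El (by rw [om_smul_right, e1, mul_zero]), om_ve_vf, om_smul_left, om_swap v2, e2]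
    match_scalars <;> field_simp <;> ring
  obtain ⟨d, hd⟩ : ∃ d : Vc N F, d = c • vf p := ⟨_, rfl⟩
  have hds : Supp P d := hd ▸ supp_smul c (supp_vf C.hp)
  have hphi : C.phi v2 = (C.phi d)⁻¹ * (x * C.phi d * x⁻¹) := by
    rw [C.phi_conj hx hds, hd, hxf, ← hd, C.phi_inv hF hds, C.phi_add hF (supp_neg hds) (supp_add hds hv2s),
      neg_add_cancel_left, om_neg_left, om_add_right, om_self, hd, om_smul_left, e2, mul_zero, add_zero,
      neg_zero, C.ez_zero, mul_one]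
  obtain ⟨g, hg⟩ : ∃ g, g = C.phi d * C.aa 1 := ⟨_, rfl⟩
  have hv2part : (C.aa 1)⁻¹ * C.phi v2 * C.aa 1 ∈ C.Q hF := by
    have ha := C.aa_comm hF hx hxe (C.aa_RA 1)
    have e : (C.aa 1)⁻¹ * C.phi v2 * C.aa 1 = g⁻¹ * x * g * x⁻¹ := by
      rw [hphi, hg, show (C.aa 1)⁻¹ * ((C.phi d)⁻¹ * (x * C.phi d * x⁻¹)) * C.aa 1 =
        (C.aa 1)⁻¹ * (C.phi d)⁻¹ * x * C.phi d * (x⁻¹ * C.aa 1) by group, ha.inv_left.eq]
      group
    rw [e]
    have hgc : g ∈ C.cells hF := hg ▸ hd ▸ C.gen_cells hF c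
    have hgv : act (π g) (ve o) = (1 - c) • ve o + ve p := by
      rw [hg, hd, map_mul, act_mul, C.act_aa hF, act_add, C.map_phi (supp_smul c (supp_vf C.hp)),
        (C.act_o (supp_smul c (supp_vf C.hp)) 0).1, act_El (C.om_o (supp_smul c (supp_vf C.hp))),
        C.om_o (supp_ve C.hp), om_smul_left, om_vf_ve]
      module
    rcases hgc with ⟨n, hn, h, l, a, q, hq, e'⟩ | ⟨u, hu, h, l, a, q, hq, e'⟩ | ⟨y, hy, q, hq, e'⟩
    · exact absurd (by rw [← e', hgv]; simp [ve]) (C.act_cellA hF hn a hq)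
    · have hu' : l • ve o + l • u = (1 - c) • ve o + ve p := by rw [← hgv, e', C.act_cellB hF hu a hq]
      have hl : l = 1 - c := by
        have := congrFun hu' (Sum.inl o)
        simpa [ve, (hu o C.ho).1, C.hne] using this
      rw [hl, add_right_inj] at hu'
      have hu2 : u = (1 - c)⁻¹ • ve p := by
        rw [← hu', inv_smul_smul₀ (sub_ne_zero.2 hc1.symm)]
      obtain ⟨mA, hmA⟩ : ∃ mA, mA = C.w⁻¹ * C.phi u * C.w * h := ⟨_, rfl⟩
      have hmR : mA ∈ C.RA := by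
        rw [hmA, hu2]; exact mul_mem (C.aa_RA _) (C.S_RA a.1)
      have hcm := C.aa_comm hF hx hxe hmR
      rw [← hmA] at e'
      rw [e', show (mA * q)⁻¹ * x * (mA * q) * x⁻¹ = q⁻¹ * (mA⁻¹ * (x * mA)) * q * x⁻¹ by group, hcm.eq,
        inv_mul_cancel_left]
      exact mul_mem (mul_mem (mul_mem (inv_mem hq) (C.G_Q hF hx)) hq) (C.G_Q hF (inv_mem hx))
    · have h := (C.act_cellC hF hy hq o C.ho).1
      rw [← e', hgv] at h
      simp [ve, C.hne] at h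
      exact absurd (sub_eq_zero.1 h).symm hc1
  have hsplit : C.phi v = C.phi (m • ve p) * C.phi v2 := by
    rw [C.phi_add hF (supp_smul m (supp_ve C.hp)) hv2s, om_smul_left, e1, mul_zero, C.ez_zero, mul_one,
      hv2, add_sub_cancel]
  rw [hsplit, show (C.aa 1)⁻¹ * (C.phi (m • ve p) * C.phi v2) * C.aa 1 =
    ((C.aa 1)⁻¹ * C.phi (m • ve p) * C.aa 1) * ((C.aa 1)⁻¹ * C.phi v2 * C.aa 1) by group]
  exact mul_mem hm_part hv2part

theorem phi_aa {v : Vc N F} (hv : Supp P v) : C.phi v * C.aa 1 ∈ C.cells hF := by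
  obtain ⟨c, hc⟩ : ∃ c, c = v (Sum.inr p) := ⟨_, rfl⟩
  obtain ⟨v0, hv0⟩ : ∃ v0, v0 = v - c • vf p := ⟨_, rfl⟩
  have hv0s : Supp P v0 := hv0 ▸ supp_sub hv (supp_smul c (supp_vf C.hp))
  have h0 : om (ve p) v0 = 0 := by rw [hv0, om_ve_left]; simp [vf, hc]
  have hadd := C.phi_add hF (supp_smul c (supp_vf C.hp)) hv0s
  rw [show c • vf p + v0 = v by rw [hv0, add_sub_cancel]] at hadd
  have e : C.phi v = C.ez (-om (c • vf p) v0) * (C.phi (c • vf p) * C.phi v0) := by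
    rw [hadd, ← mul_assoc, (C.ez_phi hv _).eq, mul_assoc, C.ez_add, neg_add_cancel, C.ez_zero, mul_one]
  rw [e, show C.ez (-om (c • vf p) v0) * (C.phi (c • vf p) * C.phi v0) * C.aa 1 =
    C.ez (-om (c • vf p) v0) * ((C.phi (c • vf p) * C.aa 1) * ((C.aa 1)⁻¹ * C.phi v0 * C.aa 1)) by group]
  exact C.ez_cells hF _ (C.cells_Q hF (C.gen_cells hF c) (C.aa_conj_phi hF hv0s h0))

theorem U_cells {n g : K} (hn : n ∈ C.U hF) (hg : g ∈ C.cells hF) : n * g ∈ C.cells hF := by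
  obtain ⟨v, hv, z, rfl⟩ := hn
  rw [← (C.ez_phi hv z).eq, mul_assoc]
  refine C.ez_cells hF z ?_
  rcases hg with ⟨n', hn', h, l, a, q, hq, rfl⟩ | ⟨u, hu, h, l, a, q, hq, rfl⟩ | ⟨y, hy, q, hq, rfl⟩
  · rw [← mul_assoc, ← mul_assoc, ← mul_assoc]
    exact C.cellA hF (mul_mem (C.phi_mem_U hF hv) hn') a hq
  · have a' := C.Dg_w a
    rw [show C.phi v * (C.w⁻¹ * C.phi u * C.w * h * q) = h * (((h⁻¹ * C.phi v * h⁻¹⁻¹) *
      (C.w⁻¹ * ((C.w * h * C.w⁻¹)⁻¹ * C.phi u * (C.w * h * C.w⁻¹)⁻¹⁻¹) * C.w)) * q) by group,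
      C.Dg_phi (C.Dg_inv a) hv, C.Dg_phi (C.Dg_inv a') hu]
    refine C.Dg_cells hF a (C.cells_Q hF ?_ hq)
    have hu' := supp_smul (l⁻¹)⁻¹ hu
    have hv' := supp_smul l⁻¹ hv
    generalize l⁻¹⁻¹ • u = u' at hu' ⊢
    generalize l⁻¹ • v = v' at hv' ⊢
    by_cases hne : u' = 0
    · rw [hne, C.phi_zero, mul_one, inv_mul_cancel, mul_one]
      exact C.Q_cells hF (C.U_Q hF (C.phi_mem_U hF hv'))
    obtain ⟨x, hx, ex⟩ := C.exists_rep hu' hne
    have hxi : act (π x) (act (π x)⁻¹ v') = v' := act_cancel_inv _ _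
    have hsi : Supp P (act (π x)⁻¹ v') := supp_act (inv_mem (C.G_Fx hx)) hv'
    rw [← ex, ← hxi, ← C.phi_conj hx (supp_ve C.hp), ← C.phi_conj hx hsi,
      show C.w⁻¹ * (x * C.phi (ve p) * x⁻¹) * C.w = (C.w⁻¹ * x) * C.phi (ve p) * (x⁻¹ * C.w) by group,
      ← (C.comm x hx _ (inv_mem C.w_mem)).eq, (C.comm x⁻¹ (inv_mem hx) _ C.w_mem).eq,
      show x * C.phi (act (π x)⁻¹ v') * x⁻¹ * (x * C.w⁻¹ * C.phi (ve p) * (C.w * x⁻¹)) =
        x * ((C.phi (act (π x)⁻¹ v') * C.aa 1) * x⁻¹) by rw [aa, one_smul]; group]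
    exact C.G_cells hF hx (C.cells_Q hF (C.phi_aa hF hsi) (C.G_Q hF (inv_mem hx)))
  · rw [show C.phi v * (y * C.rr * q) = y * ((y⁻¹ * C.phi v * y⁻¹⁻¹) * C.rr * q) by group,
      C.phi_conj (inv_mem hy) hv]
    have hs := supp_act (C.G_Fx (inv_mem hy)) hv
    refine C.G_cells hF hy (C.cells_Q hF ?_ hq)
    rw [rr, ← mul_assoc, C.phi_add hF hs (supp_vf C.hp), ← (C.ez_phi (supp_add hs (supp_vf C.hp)) _).eq,
      mul_assoc]
    exact C.ez_cells hF _ (C.phi_aa hF (supp_add hs (supp_vf C.hp)))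

theorem Q_mul_cells {q g : K} (hq : q ∈ C.Q hF) (hg : g ∈ C.cells hF) : q * g ∈ C.cells hF := by
  obtain ⟨x, hx, n, hn, rfl⟩ := hq
  rw [mul_assoc]
  exact C.G_cells hF hx (C.U_cells hF hn hg)

theorem mem_cells {g : K} (hg : g ∈ C.G1 ⊔ C.S0 ⊔ C.M) : g ∈ C.cells hF := by
  have hle : C.G1 ⊔ C.S0 ⊔ C.M ≤
      Subgroup.closure ((C.Q hF : Set K) ∪ {C.w}) := by
    have hQ : ∀ x ∈ C.Q hF, x ∈ Subgroup.closure ((C.Q hF : Set K) ∪ {C.w}) := fun x hx =>
      Subgroup.subset_closure (Or.inl hx)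
    have hw : C.w ∈ Subgroup.closure ((C.Q hF : Set K) ∪ {C.w}) := Subgroup.subset_closure (Or.inr rfl)
    refine sup_le (sup_le (fun x hx => hQ x (C.G_Q hF hx)) ?_) (fun x hx => hQ x (C.M_Q hF hx))
    refine (C.S0_le_V hF).trans ((Subgroup.closure_le _).2 ?_)
    rintro _ (⟨z, rfl⟩ | ⟨z, rfl⟩)
    · exact hQ _ (C.U_Q hF (C.ez_mem_U hF z))
    · exact mul_mem (mul_mem (inv_mem hw) (hQ _ (C.U_Q hF (C.ez_mem_U hF z)))) hw
  have hg' := hle hg
  clear hg hle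
  induction hg' using Subgroup.closure_induction_left with
  | one => exact C.Q_cells hF (one_mem _)
  | mul_left x hx y _ ih =>
    rcases hx with hx | hx
    · exact C.Q_mul_cells hF hx ih
    · rw [Set.mem_singleton_iff.1 hx]; exact C.w_cells hF ih
  | inv_mul_cancel x hx y _ ih =>
    rcases hx with hx | hx
    · exact C.Q_mul_cells hF (inv_mem hx) ih
    · rw [Set.mem_singleton_iff.1 hx]; exact C.winv_cells hF ih

/-- The step. -/
theorem step :
    Inj π (C.G1 ⊔ C.S0 ⊔ C.M) ∧ (C.G1 ⊔ C.S0 ⊔ C.M).map π = Fx (fun k => P k ∨ k = o) := by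
  obtain ⟨T, hT⟩ : ∃ T, T = C.G1 ⊔ C.S0 ⊔ C.M := ⟨_, rfl⟩
  rw [← hT]
  have hG : C.G1 ≤ T := hT ▸ le_sup_of_le_left le_sup_left
  have hS : C.S0 ≤ T := hT ▸ le_sup_of_le_left le_sup_right
  have hM : C.M ≤ T := hT ▸ le_sup_right
  refine ⟨fun g hg e => ?_, le_antisymm ?_ fun A hA => ?_⟩
  · have hv : act (π g) (ve o) = ve o := by rw [e, act_one]
    rcases C.mem_cells hF (hT ▸ hg) with
      ⟨n, hn, h, l, a, q, hq, rfl⟩ | ⟨u, hu, h, l, a, q, hq, rfl⟩ | ⟨y, hy, q, hq, rfl⟩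
    · exact absurd (by rw [hv]; simp [ve]) (C.act_cellA hF hn a hq)
    · rw [C.act_cellB hF hu a hq] at hv
      have hl : l = 1 := by
        have := congrFun hv (Sum.inl o)
        simpa [ve, (hu o C.ho).1] using this
      subst hl
      rw [one_smul, one_smul, add_eq_left] at hv
      subst hv
      have h1 : h = 1 := C.S0_ext a.1 (one_mem _)
        (by rw [map_one, act_one, a.2.2.1, one_smul]) (by rw [map_one, act_one, a.2.2.2, inv_one, one_smul])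
      subst h1
      simp only [C.phi_zero, mul_one, inv_mul_cancel, one_mul] at e ⊢
      exact C.inj_Q hF q hq e
    · have h := (C.act_cellC hF hy hq o C.ho).1
      rw [hv] at h
      simp [ve] at h
  · rw [hT, Subgroup.map_sup, Subgroup.map_sup, C.mapG, C.mapS, C.mapM]
    refine sup_le (sup_le (Fx_mono fun k hk => Or.inl hk) (Fx_mono fun k hk => Or.inr hk)) ?_
    intro A hA k hk
    push Not at hk
    exact ⟨hA.1 k, hA.2 k hk.2 fun e => hk.1 (e ▸ C.hp)⟩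
  · obtain ⟨v, hv⟩ : ∃ v, v = act A (ve o) := ⟨_, rfl⟩
    have hvs : Supp (fun k => P k ∨ k = o) v := hv ▸ supp_act hA (supp_ve (Or.inr rfl))
    have hne : v ≠ 0 := fun h => ve_ne_zero (F := F) o (by
      rw [← act_inv_cancel A (ve o), ← hv, h, act_zero])
    have hUT : ∀ {u : Vc N F}, Supp P u → C.phi u ∈ T := fun {u} hu => by
      by_cases h : u = 0
      · rw [h, C.phi_zero]; exact one_mem _
      · obtain ⟨g, hg, eg⟩ := C.exists_rep hu h
        rw [C.phi_eq hg eg]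
        exact mul_mem (mul_mem (hG hg) (hM C.e1_mem)) (inv_mem (hG hg))
    have hQT : ∀ q ∈ C.Q hF, q ∈ T := by
      rintro _ ⟨g, hg, _, ⟨u, hu, z, rfl⟩, rfl⟩
      exact mul_mem (hG hg) (mul_mem (hUT hu) (hS (C.ez_mem z)))
    have hrT : C.rr ∈ T := mul_mem (hUT (supp_vf C.hp))
      (mul_mem (mul_mem (inv_mem (hS C.w_mem)) (hUT (supp_smul 1 (supp_ve C.hp)))) (hS C.w_mem))
    obtain ⟨g, hgT, hge⟩ : ∃ g ∈ T, act (π g) (ve o) = v := by
      obtain ⟨u, hu⟩ : ∃ u, u = v - v (Sum.inl o) • ve o - v (Sum.inr o) • vf o := ⟨_, rfl⟩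
      have hus : Supp P u := fun k hk => by
        by_cases hko : k = o
        · subst hko; rw [hu]; simp [ve, vf]
        · rw [hu]; simp [ve, vf, hko, (hvs k (not_or.2 ⟨hk, hko⟩)).1, (hvs k (not_or.2 ⟨hk, hko⟩)).2]
      by_cases hb : v (Sum.inr o) = 0
      · by_cases ha : v (Sum.inl o) = 0
        · rw [ha, hb, zero_smul, zero_smul, sub_zero, sub_zero] at hu
          obtain ⟨x, hx, ex⟩ := C.exists_rep hus (hu ▸ hne)
          exact ⟨x * C.rr, mul_mem (hG hx) hrT, by rw [map_mul, act_mul, C.act_rr hF, ex, hu]⟩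
        · obtain ⟨h, hD⟩ := C.exists_Dg ha
          have hs := supp_smul (v (Sum.inl o))⁻¹ hus
          refine ⟨C.w⁻¹ * C.phi ((v (Sum.inl o))⁻¹ • u) * C.w * h,
            mul_mem (mul_mem (mul_mem (inv_mem (hS C.w_mem)) (hUT hs)) (hS C.w_mem)) (hS hD.1), ?_⟩
          rw [map_mul, act_mul, hD.2.2.1, act_smul, C.act_winv_phi_w hs, smul_add, smul_smul,
            mul_inv_cancel₀ ha, one_smul, hu, hb]
          module
      · obtain ⟨h, hD⟩ := C.exists_Dg (inv_ne_zero hb)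
        have hs := supp_smul (v (Sum.inr o))⁻¹ hus
        refine ⟨C.phi ((v (Sum.inr o))⁻¹ • u) * C.ez (v (Sum.inl o) / v (Sum.inr o)) * h * C.w,
          mul_mem (mul_mem (mul_mem (hUT hs) (hS (C.ez_mem _))) (hS hD.1)) (hS C.w_mem), ?_⟩
        rw [map_mul, map_mul, map_mul, C.map_w, act_mul, act_mul, act_mul, act_Wo_ve, hD.2.2.2, inv_inv,
          act_smul, C.map_ez, (C.act_o supp_zero _).2, add_zero, C.map_phi hs, act_smul, act_add, act_smul,
          (C.act_o hs 0).1, (C.act_o hs 0).2, hu]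
        match_scalars <;> field_simp <;> ring
    have hgF : π g ∈ Fx (fun k => P k ∨ k = o) := by
      have hmap : T.map π ≤ Fx (fun k => P k ∨ k = o) := by
        rw [hT, Subgroup.map_sup, Subgroup.map_sup, C.mapG, C.mapS, C.mapM]
        refine sup_le (sup_le (Fx_mono fun k hk => Or.inl hk) (Fx_mono fun k hk => Or.inr hk)) ?_
        intro A hA k hk
        push Not at hk
        exact ⟨hA.1 k, hA.2 k hk.2 fun e => hk.1 (e ▸ C.hp)⟩
      exact hmap ⟨g, hgT, rfl⟩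
    obtain ⟨q, hq, eq⟩ := C.exists_Q hF (mul_mem (inv_mem hgF) hA)
      (by rw [act_mul, ← hv]; exact act_inv_eq hge)
    exact ⟨g * q, mul_mem hgT (hQT q hq), by rw [map_mul, eq, mul_inv_cancel_left]⟩

end Ctx

end Cfsg.Agent.SlimSp
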