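import Cfsg.Agent.Lib.SlimSp.Cells

/-!
The group generated by a slim amalgam over the symplectic group maps bijectively.
-/

set_option autoImplicit false
set_option linter.unusedSectionVars false

open Matrix

namespace Cfsg.Agent.SlimSp

variable {N : ℕ} {F : Type*} [Field F] {K : Type*} [Group K]

theorem om_disjoint {P Q : Fin N → Prop} (hd : ∀ k, P k → ¬Q k) {u v : Vc N F} (hu : Supp P u)
    (hv : Supp Q v) : om u v = 0 :=
  Finset.sum_eq_zero fun k _ => by
    by_cases hk : P k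
    · rw [(hv k (hd k hk)).1, (hv k (hd k hk)).2]; ring
    · rw [(hu k hk).1, (hu k hk).2]; ring

theorem act_fix_supp {P Q : Fin N → Prop} (hd : ∀ k, P k → ¬Q k) {B : Spg N F} (hB : B ∈ Fx Q)
    {v : Vc N F} (hv : Supp P v) : act B v = v := by
  funext i
  rcases i with k | k <;> by_cases hk : Q k
  · have h := om_disjoint hd hv (supp_act (inv_mem hB) (supp_vf hk))
    rw [← om_act B, act_cancel_inv, om_vf_right] at h
    rw [h, (hv k fun hp => hd k hp hk).1]
  · exact act_fix_of_inr _ (hB k hk).2 v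
  · have h := om_disjoint hd hv (supp_act (inv_mem hB) (supp_ve hk))
    rw [← om_act B, act_cancel_inv, om_ve_right, neg_eq_zero] at h
    rw [h, (hv k fun hp => hd k hp hk).2]
  · exact act_fix_of_inl _ (hB k hk).1 v

theorem commute_disjoint {P Q : Fin N → Prop} (hd : ∀ k, P k → ¬Q k) {A B : Spg N F} (hA : A ∈ Fx P)
    (hB : B ∈ Fx Q) : Commute A B := by
  have hd' : ∀ k, Q k → ¬P k := fun k hq hp => hd k hp hq
  refine act_ext_basis (fun k => ?_) fun k => ?_ <;> rw [act_mul, act_mul] <;> by_cases hk : P k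
  · rw [(hB k (hd k hk)).1, act_fix_supp hd hB (supp_act hA (supp_ve hk))]
  · rw [(hA k hk).1]
    by_cases hq : Q k
    · rw [act_fix_supp hd' hA (supp_act hB (supp_ve hq))]
    · rw [(hB k hq).1, (hA k hk).1]
  · rw [(hB k (hd k hk)).2, act_fix_supp hd hB (supp_act hA (supp_vf hk))]
  · rw [(hA k hk).2]
    by_cases hq : Q k
    · rw [act_fix_supp hd' hA (supp_act hB (supp_vf hq))]
    · rw [(hB k hq).2, (hA k hk).2]

theorem act_upper {A : Spg N F} (hA : ∀ k, act A (ve k) = ve k) {v : Vc N F}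
    (hv : ∀ k, v (Sum.inr k) = 0) : act A v = v := by
  funext i
  rcases i with k | k
  · have h := om_act A⁻¹ (act A v) (vf k)
    rw [act_inv_cancel, om_vf_right] at h
    rw [← h, om]
    have he : ∀ j, act A⁻¹ (vf k) (Sum.inr j) = (vf k : Vc N F) (Sum.inr j) := fun j =>
      act_fix_of_inl _ (act_inv_eq (hA j)) _
    simp only [hv, he, zero_mul, sub_zero]
    simp [vf, Pi.single_apply]
  · exact act_fix_of_inl _ (hA k) v

theorem commute_upper {A B : Spg N F} (hA : ∀ k, act A (ve k) = ve k) (hB : ∀ k, act B (ve k) = ve k) :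
    Commute A B := by
  refine act_ext_basis (fun k => ?_) fun k => ?_ <;> rw [act_mul, act_mul]
  · rw [hA, hB, hA]
  · have hd : ∀ {C : Spg N F}, (∀ j, act C (ve j) = ve j) → ∀ j, (act C (vf k) - vf k : Vc N F) (Sum.inr j) = 0 :=
      fun hC j => by rw [Pi.sub_apply, act_fix_of_inl _ (hC j), sub_self]
    have e1 : act A (act B (vf k) - vf k) = act B (vf k) - vf k := act_upper hA (hd hB)
    have e2 : act B (act A (vf k) - vf k) = act A (vf k) - vf k := act_upper hB (hd hA)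
    have f1 := act_add A (act B (vf k) - vf k) (vf k)
    have f2 := act_add B (act A (vf k) - vf k) (vf k)
    rw [sub_add_cancel, e1] at f1
    rw [sub_add_cancel, e2] at f2
    rw [f1, f2]; abel

theorem DM_le_Fx (o p : Fin N) : DM (F := F) o p ≤ Fx (fun k => k = o ∨ k = p) := fun _ hA k hk =>
  ⟨hA.1 k, hA.2 k (fun e => hk (Or.inl e)) fun e => hk (Or.inr e)⟩

/-- The hypotheses on the members of the amalgam. -/
structure Amalgam (π : K →* Spg N F) (SS MM : Fin N → Subgroup K) : Prop where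
  mapSS : ∀ j, (SS j).map π = Fx (fun k => k = j)
  mapMM : ∀ i p : Fin N, (p : ℕ) = i + 1 → (MM i).map π = DM i p
  injSS : ∀ j l, Inj π (SS j ⊔ SS l)
  injMM : ∀ i i' : Fin N, (i : ℕ) + 1 < N → (i' : ℕ) + 1 < N → Inj π (MM i ⊔ MM i')
  injMS : ∀ i j : Fin N, (i : ℕ) + 1 < N → Inj π (MM i ⊔ SS j)

/-- The group generated by the members of index at least `a`. -/
def Gam (SS MM : Fin N → Subgroup K) (a : ℕ) : Subgroup K :=
  Subgroup.closure ({x | ∃ j : Fin N, a ≤ (j : ℕ) ∧ x ∈ SS j} ∪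
    {x | ∃ i : Fin N, a ≤ (i : ℕ) ∧ (i : ℕ) + 1 < N ∧ x ∈ MM i})

theorem SS_le_Gam {SS MM : Fin N → Subgroup K} {a : ℕ} {j : Fin N} (h : a ≤ (j : ℕ)) :
    SS j ≤ Gam SS MM a := fun _ hx => Subgroup.subset_closure (Or.inl ⟨j, h, hx⟩)

theorem MM_le_Gam {SS MM : Fin N → Subgroup K} {a : ℕ} {i : Fin N} (h : a ≤ (i : ℕ))
    (h' : (i : ℕ) + 1 < N) : MM i ≤ Gam SS MM a := fun _ hx =>
  Subgroup.subset_closure (Or.inr ⟨i, h, h', hx⟩)

variable {π : K →* Spg N F} {SS MM : Fin N → Subgroup K}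

theorem Amalgam.fix_MM (hA : Amalgam π SS MM) {i : Fin N} (hi : (i : ℕ) + 1 < N) {x : K} (hx : x ∈ MM i) :
    π x ∈ DM i ⟨(i : ℕ) + 1, hi⟩ := (hA.mapMM i ⟨_, hi⟩ rfl).le ⟨x, hx, rfl⟩

theorem Amalgam.comm_SS (hA : Amalgam π SS MM) {j l : Fin N} (h : j ≠ l) {x y : K} (hx : x ∈ SS j)
    (hy : y ∈ SS l) : Commute x y := by
  refine (hA.injSS j l).eq (mul_mem (Subgroup.mem_sup_left hx) (Subgroup.mem_sup_right hy))
    (mul_mem (Subgroup.mem_sup_right hy) (Subgroup.mem_sup_left hx)) ?_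
  rw [map_mul, map_mul]
  exact commute_disjoint (fun k hk hk' => h (hk.symm.trans hk'))
    ((hA.mapSS j).le ⟨x, hx, rfl⟩) ((hA.mapSS l).le ⟨y, hy, rfl⟩)

theorem Amalgam.comm_MS (hA : Amalgam π SS MM) {i j : Fin N} (hi : (i : ℕ) + 1 < N)
    (h : (j : ℕ) ≠ i) (h' : (j : ℕ) ≠ i + 1) {x y : K} (hx : x ∈ MM i) (hy : y ∈ SS j) : Commute x y := by
  refine (hA.injMS i j hi).eq (mul_mem (Subgroup.mem_sup_left hx) (Subgroup.mem_sup_right hy))
    (mul_mem (Subgroup.mem_sup_right hy) (Subgroup.mem_sup_left hx)) ?_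
  rw [map_mul, map_mul]
  refine commute_disjoint (fun k hk hk' => ?_) (DM_le_Fx _ _ (hA.fix_MM hi hx))
    ((hA.mapSS j).le ⟨y, hy, rfl⟩)
  subst hk'
  rcases hk with rfl | rfl
  · exact h rfl
  · exact h' rfl

theorem Amalgam.comm_MM (hA : Amalgam π SS MM) {i i' : Fin N} (hi : (i : ℕ) + 1 < N)
    (hi' : (i' : ℕ) + 1 < N) {x y : K} (hx : x ∈ MM i) (hy : y ∈ MM i') : Commute x y := by
  refine (hA.injMM i i' hi hi').eq (mul_mem (Subgroup.mem_sup_left hx) (Subgroup.mem_sup_right hy))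
    (mul_mem (Subgroup.mem_sup_right hy) (Subgroup.mem_sup_left hx)) ?_
  rw [map_mul, map_mul]
  exact commute_upper (hA.fix_MM hi hx).1 (hA.fix_MM hi' hy).1

/-- The statement of the induction. -/
def Good (π : K →* Spg N F) (SS MM : Fin N → Subgroup K) (a : ℕ) : Prop :=
  Inj π (Gam SS MM a) ∧ (Gam SS MM a).map π = Fx (fun k => a ≤ (k : ℕ)) ∧
    ∀ j : Fin N, (j : ℕ) = a → ∀ x ∈ Gam SS MM a, act (π x) (ve j) = ve j →
      ∀ b : Fin N, (b : ℕ) + 1 = a → ∀ m ∈ MM b, Commute x m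

theorem good_last (hA : Amalgam π SS MM) {j : Fin N} (hj : (j : ℕ) + 1 = N) : Good π SS MM j := by
  have hG : Gam SS MM (j : ℕ) = SS j := by
    refine le_antisymm ((Subgroup.closure_le _).2 ?_) (SS_le_Gam le_rfl)
    rintro x (⟨l, hl, hx⟩ | ⟨l, hl, hl', -⟩)
    · have : l = j := Fin.ext (by have := l.2; omega)
      exact this ▸ hx
    · omega
  have hP : ∀ k : Fin N, k = j ↔ (j : ℕ) ≤ (k : ℕ) := fun k => by
    constructor
    · rintro rfl; exact le_rfl
    · intro h; exact Fin.ext (by have := k.2; omega)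
  refine ⟨hG ▸ (hA.injSS j j).mono le_sup_left, ?_, ?_⟩
  · rw [hG, hA.mapSS]
    exact le_antisymm (Fx_mono fun k hk => (hP k).1 hk) (Fx_mono fun k hk => (hP k).2 hk)
  intro j' hj' x hx he b hb m hm
  obtain rfl : j' = j := Fin.ext hj'
  rw [hG] at hx
  have hx' := (hA.mapSS j').le ⟨x, hx, rfl⟩
  have hbN : (b : ℕ) + 1 < N := by omega
  obtain ⟨z, hz⟩ : ∃ z, z = act (π x) (vf j') (Sum.inl j') := ⟨_, rfl⟩
  have hπ : π x = El (ve j') 0 z := by
    refine act_ext_basis (fun k => ?_) fun k => ?_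
    · rw [act_El_zero, om_ve_left]
      by_cases hk : k = j'
      · subst hk; rw [he]; simp [ve]
      · rw [(hx' k hk).1]; simp [ve]
    · rw [act_El_zero, om_ve_left]
      by_cases hk : k = j'
      · subst hk
        funext i
        rcases i with l | l
        · by_cases hl : l = k
          · subst hl; simp [ve, vf, hz]
          · rw [act_fix_of_inr _ (hx' l hl).2]; simp [ve, vf, hl]
        · by_cases hl : l = k
          · subst hl; rw [act_fix_of_inl _ he]; simp [ve, vf]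
          · rw [act_fix_of_inl _ (hx' l hl).1]; simp [ve, vf, hl]
      · rw [(hx' k hk).2]; simp [vf, Ne.symm hk]
  have hmap := hA.mapMM b j' hb.symm
  obtain ⟨y, hy, ey⟩ : El (ve j') 0 z ∈ (MM b).map π :=
    hmap ▸ El_ve_mem_DM (Or.inr rfl) ⟨0, (zero_smul F _).symm⟩ z
  have hxy : x = y := (hA.injMS b j' hbN).eq (Subgroup.mem_sup_right hx) (Subgroup.mem_sup_left hy)
    (hπ.trans ey.symm)
  exact hxy ▸ hA.comm_MM hbN hbN hy hm

theorem good_step (hA : Amalgam π SS MM) (hF : ∃ a : F, a ≠ 0 ∧ a ≠ 1) {o p : Fin N}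
    (hop : (p : ℕ) = o + 1) (hG : Good π SS MM p) : Good π SS MM o := by
  obtain ⟨hinj, hmap, hst⟩ := hG
  have hoN : (o : ℕ) + 1 < N := hop ▸ p.2
  let C : Ctx π o p (fun k => (p : ℕ) ≤ (k : ℕ)) :=
    { G1 := Gam SS MM p
      S0 := SS o
      Sp1 := SS p
      M := MM o
      hne := fun e => by rw [e] at hop; omega
      hp := le_rfl
      ho := by omega
      injG := hinj
      mapG := hmap
      sp_le := SS_le_Gam le_rfl
      mapSp := hA.mapSS p
      mapS := hA.mapSS o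
      mapM := hA.mapMM o p hop
      injA := hA.injMS o o hoN
      injB := hA.injMS o p hoN
      comm := fun x hx y hy => by
        have hle : Gam SS MM (p : ℕ) ≤ Subgroup.centralizer {y} := (Subgroup.closure_le _).2 (by
          rintro g (⟨l, hl, hg⟩ | ⟨l, hl, hl', hg⟩)
          · exact Subgroup.mem_centralizer_singleton_iff.2
              (hA.comm_SS (fun e => by rw [e] at hl; omega) hg hy).eq
          · exact Subgroup.mem_centralizer_singleton_iff.2
              (hA.comm_MS hl' (by omega) (by omega) hg hy).eq)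
        exact Subgroup.mem_centralizer_singleton_iff.1 (hle hx)
      hcM := fun x hx he m hm => hst p rfl x hx he o hop.symm m hm }
  obtain ⟨h1, h2⟩ := C.step hF
  have hGam : Gam SS MM (o : ℕ) = Gam SS MM (p : ℕ) ⊔ SS o ⊔ MM o := by
    refine le_antisymm ((Subgroup.closure_le _).2 ?_)
      (sup_le (sup_le ((Subgroup.closure_le _).2 ?_) (SS_le_Gam le_rfl)) (MM_le_Gam le_rfl hoN))
    · rintro g (⟨l, hl, hg⟩ | ⟨l, hl, hl', hg⟩)
      · by_cases h : l = o
        · exact Subgroup.mem_sup_left (Subgroup.mem_sup_right (h ▸ hg))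
        · exact Subgroup.mem_sup_left (Subgroup.mem_sup_left (SS_le_Gam
            (by have := Fin.val_ne_of_ne h; omega) hg))
      · by_cases h : l = o
        · exact Subgroup.mem_sup_right (h ▸ hg)
        · exact Subgroup.mem_sup_left (Subgroup.mem_sup_left (MM_le_Gam
            (by have := Fin.val_ne_of_ne h; omega) hl' hg))
    · rintro g (⟨l, hl, hg⟩ | ⟨l, hl, hl', hg⟩)
      · exact SS_le_Gam (by omega) hg
      · exact MM_le_Gam (by omega) hl' hg
  have hP : ∀ k : Fin N, ((p : ℕ) ≤ (k : ℕ) ∨ k = o) ↔ (o : ℕ) ≤ (k : ℕ) := fun k => by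
    constructor
    · rintro (h | rfl)
      · omega
      · exact le_rfl
    · intro h
      by_cases hk : k = o
      · exact Or.inr hk
      · exact Or.inl (by have := Fin.val_ne_of_ne hk; omega)
  have h2' : (Gam SS MM (o : ℕ)).map π = Fx (fun k => (o : ℕ) ≤ (k : ℕ)) := by
    rw [hGam]
    exact h2.trans (le_antisymm (Fx_mono fun k hk => (hP k).1 hk) (Fx_mono fun k hk => (hP k).2 hk))
  have h1' : Inj π (Gam SS MM (o : ℕ)) := hGam ▸ h1
  refine ⟨h1', h2', ?_⟩
  intro j hj x hx he b hb m hm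
  obtain rfl : j = o := Fin.ext hj
  have hxF : π x ∈ Fx (fun k : Fin N => (p : ℕ) ≤ (k : ℕ) ∨ k = j) :=
    Fx_mono (fun k hk => (hP k).2 hk) (h2'.le ⟨x, hx, rfl⟩)
  obtain ⟨q, hq, eq⟩ := C.exists_Q hF hxF he
  obtain ⟨g, hg, _, ⟨u, hu, z, rfl⟩, rfl⟩ := hq
  have hsub : g * (C.phi u * C.ez z) ∈ Gam SS MM (p : ℕ) ⊔ MM j := by
    refine mul_mem (Subgroup.mem_sup_left hg) (mul_mem ?_ (Subgroup.mem_sup_right (C.ez_mem_M z)))
    by_cases hu0 : u = 0
    · rw [hu0, C.phi_zero]; exact one_mem _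
    · obtain ⟨r, hr, er⟩ := C.exists_rep hu hu0
      rw [C.phi_eq hr er]
      exact mul_mem (mul_mem (Subgroup.mem_sup_left hr) (Subgroup.mem_sup_right C.e1_mem))
        (inv_mem (Subgroup.mem_sup_left hr))
  have hle : Gam SS MM (p : ℕ) ⊔ MM j ≤ Gam SS MM (j : ℕ) :=
    hGam ▸ sup_le (le_sup_of_le_left le_sup_left) le_sup_right
  rw [h1'.eq hx (hle hsub) eq.symm]
  have hbN : (b : ℕ) + 1 < N := by omega
  have hc : Gam SS MM (p : ℕ) ⊔ MM j ≤ Subgroup.centralizer {m} := by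
    refine sup_le ((Subgroup.closure_le _).2 ?_) fun g hg => ?_
    · rintro g (⟨l, hl, hg⟩ | ⟨l, hl, hl', hg⟩)
      · exact Subgroup.mem_centralizer_singleton_iff.2
          (hA.comm_MS hbN (by omega) (by omega) hm hg).eq.symm
      · exact Subgroup.mem_centralizer_singleton_iff.2 (hA.comm_MM hbN hl' hm hg).eq.symm
    · exact Subgroup.mem_centralizer_singleton_iff.2 (hA.comm_MM hbN hoN hm hg).eq.symm
  exact Subgroup.mem_centralizer_singleton_iff.1 (hc hsub)

theorem good_zero (hA : Amalgam π SS MM) (hF : ∃ a : F, a ≠ 0 ∧ a ≠ 1) (hN : 0 < N) :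
    Good π SS MM 0 := by
  have h : ∀ d, ∀ j : Fin N, (j : ℕ) + 1 + d = N → Good π SS MM j := by
    intro d
    induction d with
    | zero => exact fun j hj => good_last hA (by omega)
    | succ d ih => exact fun j hj => good_step hA hF (p := ⟨(j : ℕ) + 1, by omega⟩) rfl (ih _ (by simp; omega))
  exact h (N - 1) ⟨0, hN⟩ (by simp; omega)

/-- The group generated by the amalgam maps bijectively. -/
theorem bijective_gen (hA : Amalgam π SS MM) (hF : ∃ a : F, a ≠ 0 ∧ a ≠ 1) (hN : 0 < N) :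
    Function.Bijective (π.comp (Gam SS MM 0).subtype) := by
  obtain ⟨hinj, hmap, -⟩ := good_zero hA hF hN
  refine ⟨(injective_iff_map_eq_one _).2 fun x hx => Subtype.ext (hinj x x.2 hx), fun A => ?_⟩
  obtain ⟨x, hx, e⟩ := hmap.ge (show A ∈ Fx (fun k : Fin N => 0 ≤ (k : ℕ)) from
    fun k hk => absurd (Nat.zero_le _) hk)
  exact ⟨⟨x, hx⟩, e⟩

end Cfsg.Agent.SlimSp
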