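import Cfsg.Agent.Lib.SlimSp.Sympl
import Cfsg.Agent.Lib.CurtisTitsD.Bruhat

/-!
One step for the slim amalgam of the symplectic group: from the group on the indices of `P` to the group on
the indices of `P` and one more index, by the orbit of a basis vector.
-/

set_option autoImplicit false
set_option linter.unusedSectionVars false

open Matrix

namespace Cfsg.Agent.SlimSp

open Cfsg.Agent.CurtisTitsD.Bruhat (cj mem_cj conj_mem_cj)

variable {N : ℕ} {F : Type*} [Field F] {K : Type*} [Group K]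

/-- `π` is injective on the subgroup. -/
def Inj (π : K →* Spg N F) (R : Subgroup K) : Prop := ∀ g ∈ R, π g = 1 → g = 1

theorem Inj.eq {π : K →* Spg N F} {R : Subgroup K} (h : Inj π R) {x y : K} (hx : x ∈ R) (hy : y ∈ R)
    (e : π x = π y) : x = y :=
  mul_inv_eq_one.1 (h _ (mul_mem hx (inv_mem hy)) (by rw [map_mul, map_inv, e, mul_inv_cancel]))

theorem Inj.mono {π : K →* Spg N F} {R R' : Subgroup K} (h : Inj π R) (hle : R' ≤ R) : Inj π R' :=
  fun g hg => h g (hle hg)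

theorem Inj.conj {π : K →* Spg N F} {R : Subgroup K} (h : Inj π R) (g : K) : Inj π (cj g R) := by
  intro x hx e
  have := h _ (mem_cj.1 hx) (by rw [map_mul, map_mul, map_inv, e, mul_one, inv_mul_cancel])
  calc x = g * (g⁻¹ * x * g) * g⁻¹ := by group
    _ = 1 := by rw [this]; group

/-- The elements fixing every first basis vector and all second ones but two. -/
def DM (o p : Fin N) : Subgroup (Spg N F) where
  carrier := {A | (∀ k, act A (ve k) = ve k) ∧ ∀ k, k ≠ o → k ≠ p → act A (vf k) = vf k}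
  one_mem' := ⟨fun _ => act_one _, fun _ _ _ => act_one _⟩
  mul_mem' {A B} hA hB :=
    ⟨fun k => by rw [act_mul, hB.1, hA.1], fun k h1 h2 => by rw [act_mul, hB.2 k h1 h2, hA.2 k h1 h2]⟩
  inv_mem' {A} hA := ⟨fun k => act_inv_eq (hA.1 k), fun k h1 h2 => act_inv_eq (hA.2 k h1 h2)⟩

/-- The stabiliser of a vector. -/
def stabV (v : Vc N F) : Subgroup (Spg N F) where
  carrier := {A | act A v = v}
  one_mem' := act_one v
  mul_mem' {A B} hA hB := by
    simp only [Set.mem_ofPred_eq] at *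
    rw [act_mul, hB, hA]
  inv_mem' {A} hA := act_inv_eq hA

theorem El_ve_mem_DM {o p : Fin N} {e u : Vc N F} (he : e = ve o ∨ e = ve p)
    (hu : ∃ c : F, u = c • ve p) (z : F) : El e u z ∈ DM o p := by
  obtain ⟨c, rfl⟩ := hu
  have h0 : ∀ a b : Fin N, om (ve a) (ve b : Vc N F) = 0 := fun a b => by
    rw [om_ve_left]; simp [ve]
  have h : om e (c • ve p) = 0 := by
    rcases he with rfl | rfl <;> rw [om_smul_right, h0, mul_zero]
  refine ⟨fun k => ?_, fun k h1 h2 => ?_⟩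
  · rw [act_El h, om_smul_left, h0]
    rcases he with rfl | rfl <;> rw [h0] <;> module
  · have hk : ∀ a, a ≠ k → om (ve a) (vf k : Vc N F) = 0 := fun a ha => by
      rw [om_ve_left]; simp [vf, ha]
    rw [act_El h, om_smul_left, hk p h2.symm]
    rcases he with rfl | rfl <;> rw [hk _ (by first | exact h1.symm | exact h2.symm)] <;> module

theorem supp_ve_self (j : Fin N) : Supp (fun k => k = j) (ve j : Vc N F) := supp_ve (P := fun k => k = j) rfl

theorem supp_vf_self (j : Fin N) : Supp (fun k => k = j) (vf j : Vc N F) := supp_vf (P := fun k => k = j) rfl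

theorem ve_ne_zero (j : Fin N) : (ve j : Vc N F) ≠ 0 := fun h => by
  have := congrFun h (Sum.inl j); simp [ve] at this

theorem vf_ne_zero (j : Fin N) : (vf j : Vc N F) ≠ 0 := fun h => by
  have := congrFun h (Sum.inr j); simp [vf] at this

theorem om_ve_vf (j : Fin N) : om (ve j) (vf j : Vc N F) = 1 := by rw [om_ve_left]; simp [vf]

theorem om_vf_ve (j : Fin N) : om (vf j) (ve j : Vc N F) = -1 := by rw [om_swap, om_ve_vf]

theorem om_eq_zero_of_supp {P : Fin N → Prop} {o : Fin N} (ho : ¬P o) {v : Vc N F} (hv : Supp P v) :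
    om (ve o) v = 0 ∧ om (vf o) v = 0 ∧ om v (ve o) = 0 ∧ om v (vf o) = 0 := by
  rw [om_ve_left, om_vf_left, om_ve_right, om_vf_right, (hv o ho).1, (hv o ho).2]
  simp

/-- The rotation of one plane. -/
noncomputable def Wo (o : Fin N) : Spg N F := El (vf o) 0 (-1) * El (ve o) 0 (-1) * El (vf o) 0 (-1)

theorem act_Wo_ve (o : Fin N) : act (Wo o) (ve o : Vc N F) = vf o := by
  simp only [Wo, act_mul, act_El_zero, om_add_right, om_smul_right, om_self, om_vf_ve, om_ve_vf]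
  module

theorem act_Wo_vf (o : Fin N) : act (Wo o) (vf o : Vc N F) = -ve o := by
  simp only [Wo, act_mul, act_El_zero, om_add_right, om_smul_right, om_self, om_vf_ve, om_ve_vf]
  module

theorem Wo_mem (o : Fin N) : Wo (F := F) o ∈ Fx (· = o) :=
  mul_mem (mul_mem (El_mem_Fx (supp_vf_self _) supp_zero _) (El_mem_Fx (supp_ve_self _) supp_zero _))
    (El_mem_Fx (supp_vf_self _) supp_zero _)

theorem act_Wo_inv_vf (o : Fin N) : act (Wo o)⁻¹ (vf o : Vc N F) = ve o := act_inv_eq (act_Wo_ve o)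

theorem act_Wo_inv_ve (o : Fin N) : act (Wo o)⁻¹ (ve o : Vc N F) = -vf o := by
  refine act_inv_eq ?_
  rw [act_neg, act_Wo_vf, neg_neg]

variable (π : K →* Spg N F)

/-- The data of a step. -/
structure Ctx (o p : Fin N) (P : Fin N → Prop) where
  G1 : Subgroup K
  S0 : Subgroup K
  Sp1 : Subgroup K
  M : Subgroup K
  hne : o ≠ p
  hp : P p
  ho : ¬P o
  injG : Inj π G1
  mapG : G1.map π = Fx P
  sp_le : Sp1 ≤ G1
  mapSp : Sp1.map π = Fx (· = p)
  mapS : S0.map π = Fx (· = o)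
  mapM : M.map π = DM o p
  injA : Inj π (M ⊔ S0)
  injB : Inj π (M ⊔ Sp1)
  comm : ∀ x ∈ G1, ∀ y ∈ S0, Commute x y
  hcM : ∀ x ∈ G1, act (π x) (ve p) = ve p → ∀ m ∈ M, Commute x m

variable {π} {o p : Fin N} {P : Fin N → Prop} (C : Ctx π o p P)

namespace Ctx

include C

theorem exists_G {A : Spg N F} (hA : A ∈ Fx P) : ∃ x ∈ C.G1, π x = A := C.mapG.ge hA

theorem exists_S {A : Spg N F} (hA : A ∈ Fx (· = o)) : ∃ x ∈ C.S0, π x = A := C.mapS.ge hA

theorem exists_Sp {A : Spg N F} (hA : A ∈ Fx (· = p)) : ∃ x ∈ C.Sp1, π x = A := C.mapSp.ge hA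

theorem exists_M {A : Spg N F} (hA : A ∈ DM o p) : ∃ x ∈ C.M, π x = A := C.mapM.ge hA

theorem G_Fx {x : K} (hx : x ∈ C.G1) : π x ∈ Fx P := C.mapG.le ⟨x, hx, rfl⟩

theorem G_fix {x : K} (hx : x ∈ C.G1) : act (π x) (ve o) = ve o ∧ act (π x) (vf o) = vf o :=
  C.G_Fx hx o C.ho

theorem S_fix {x : K} (hx : x ∈ C.S0) {k : Fin N} (hk : k ≠ o) :
    act (π x) (ve k) = ve k ∧ act (π x) (vf k) = vf k := by
  have h : π x ∈ Fx (· = o) := C.mapS.le ⟨x, hx, rfl⟩
  exact h k hk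

/-- `RA`. -/
def RA : Subgroup K := C.M ⊔ C.S0

/-- `RB`. -/
def RB : Subgroup K := C.M ⊔ C.Sp1

theorem M_RA {x : K} (hx : x ∈ C.M) : x ∈ C.RA := Subgroup.mem_sup_left hx
theorem S_RA {x : K} (hx : x ∈ C.S0) : x ∈ C.RA := Subgroup.mem_sup_right hx
theorem M_RB {x : K} (hx : x ∈ C.M) : x ∈ C.RB := Subgroup.mem_sup_left hx
theorem Sp_RB {x : K} (hx : x ∈ C.Sp1) : x ∈ C.RB := Subgroup.mem_sup_right hx

theorem RA_fix {x : K} (hx : x ∈ C.RA) :
    π x ∈ Fx (fun k => k = o ∨ k = p) ∧ act (π x) (ve p) = ve p := by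
  have h : C.RA.map π ≤ Fx (fun k => k = o ∨ k = p) ⊓ stabV (ve p) := by
    rw [RA, Subgroup.map_sup, C.mapM, C.mapS]
    refine sup_le ?_ ?_
    · intro A hA
      exact ⟨fun k hk => ⟨hA.1 k, hA.2 k (fun e => hk (Or.inl e)) (fun e => hk (Or.inr e))⟩, hA.1 p⟩
    · intro A hA
      exact ⟨Fx_mono (fun k hk => Or.inl hk) hA, (hA p C.hne.symm).1⟩
  exact h ⟨x, hx, rfl⟩

theorem RB_fix {x : K} (hx : x ∈ C.RB) :
    π x ∈ Fx (fun k => k = o ∨ k = p) ∧ act (π x) (ve o) = ve o := by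
  have h : C.RB.map π ≤ Fx (fun k => k = o ∨ k = p) ⊓ stabV (ve o) := by
    rw [RB, Subgroup.map_sup, C.mapM, C.mapSp]
    refine sup_le ?_ ?_
    · intro A hA
      exact ⟨fun k hk => ⟨hA.1 k, hA.2 k (fun e => hk (Or.inl e)) (fun e => hk (Or.inr e))⟩, hA.1 o⟩
    · intro A hA
      exact ⟨Fx_mono (fun k hk => Or.inr hk) hA, (hA o C.hne).1⟩
  exact h ⟨x, hx, rfl⟩

theorem om_o {u : Vc N F} (hu : Supp P u) : om (ve o) u = 0 := (om_eq_zero_of_supp C.ho hu).1

theorem act_o {u : Vc N F} (hu : Supp P u) (z : F) :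
    act (El (ve o) u z) (ve o) = ve o ∧ act (El (ve o) u z) (vf o) = vf o + u + z • ve o := by
  obtain ⟨h1, -, h3, h4⟩ := om_eq_zero_of_supp C.ho hu
  constructor
  · rw [act_El h1, om_self, h3]; module
  · rw [act_El h1, om_ve_vf, h4]; module

/-- The central root element. -/
noncomputable def ez (z : F) : K :=
  (C.exists_S (A := El (ve o) 0 z) (El_mem_Fx (supp_ve_self _) supp_zero z)).choose

theorem ez_mem (z : F) : C.ez z ∈ C.S0 :=
  (C.exists_S (A := El (ve o) 0 z) (El_mem_Fx (supp_ve_self _) supp_zero z)).choose_spec.1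

theorem map_ez (z : F) : π (C.ez z) = El (ve o) 0 z :=
  (C.exists_S (A := El (ve o) 0 z) (El_mem_Fx (supp_ve_self _) supp_zero z)).choose_spec.2

theorem ez_mem_M (z : F) : C.ez z ∈ C.M := by
  obtain ⟨y, hy, e⟩ := C.exists_M (El_ve_mem_DM (u := (0 : Vc N F)) (Or.inl rfl) ⟨0, (zero_smul F _).symm⟩ z)
  rwa [C.injA.eq (C.S_RA (C.ez_mem z)) (C.M_RA hy) (by rw [e, C.map_ez])]

theorem ez_add (a b : F) : C.ez a * C.ez b = C.ez (a + b) :=
  C.injA.eq (mul_mem (C.S_RA (C.ez_mem a)) (C.S_RA (C.ez_mem b))) (C.S_RA (C.ez_mem _)) (by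
    rw [map_mul, C.map_ez, C.map_ez, C.map_ez, El_mul (om_zero_right _) (om_zero_right _),
      om_zero_left, add_zero, add_zero])

theorem ez_zero : C.ez 0 = 1 :=
  C.injA _ (C.S_RA (C.ez_mem 0)) (by rw [C.map_ez, El_zero])

theorem exists_e1 : ∃ x ∈ C.M, π x = El (ve o) (ve p) 0 :=
  C.exists_M (El_ve_mem_DM (Or.inl rfl) ⟨1, (one_smul F _).symm⟩ 0)

/-- The basic short root element. -/
noncomputable def e1 : K := C.exists_e1.choose

theorem e1_mem : C.e1 ∈ C.M := C.exists_e1.choose_spec.1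

theorem map_e1 : π C.e1 = El (ve o) (ve p) 0 := C.exists_e1.choose_spec.2

open Classical in
/-- The root elements of a vector. -/
noncomputable def phi (u : Vc N F) : K :=
  if h : ∃ g ∈ C.G1, act (π g) (ve p) = u then h.choose * C.e1 * h.choose⁻¹ else 1

theorem phi_eq {u : Vc N F} {g : K} (hg : g ∈ C.G1) (e : act (π g) (ve p) = u) :
    C.phi u = g * C.e1 * g⁻¹ := by
  have h : ∃ g ∈ C.G1, act (π g) (ve p) = u := ⟨g, hg, e⟩
  rw [phi, dif_pos h]
  obtain ⟨h1, h2⟩ := h.choose_spec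
  have hc := C.hcM (g⁻¹ * h.choose) (mul_mem (inv_mem hg) h1)
    (by rw [map_mul, map_inv, act_mul, h2]; exact act_inv_eq e) _ C.e1_mem
  calc h.choose * C.e1 * h.choose⁻¹ = g * ((g⁻¹ * h.choose) * C.e1) * h.choose⁻¹ := by group
    _ = g * (C.e1 * (g⁻¹ * h.choose)) * h.choose⁻¹ := by rw [hc.eq]
    _ = g * C.e1 * g⁻¹ := by group

theorem phi_zero : C.phi 0 = 1 := by
  rw [phi, dif_neg]
  rintro ⟨g, -, e⟩
  refine ve_ne_zero (F := F) p ?_
  rw [← act_inv_cancel (π g) (ve p), e, act_zero]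

theorem exists_rep {u : Vc N F} (hu : Supp P u) (hne : u ≠ 0) : ∃ g ∈ C.G1, act (π g) (ve p) = u := by
  obtain ⟨A, hA, e⟩ := exists_move (supp_ve C.hp) hu (ve_ne_zero p) hne
  obtain ⟨g, hg, rfl⟩ := C.exists_G hA
  exact ⟨g, hg, e⟩

theorem map_phi {u : Vc N F} (hu : Supp P u) : π (C.phi u) = El (ve o) u 0 := by
  by_cases hne : u = 0
  · subst hne; rw [C.phi_zero, map_one, El_zero]
  obtain ⟨g, hg, e⟩ := C.exists_rep hu hne
  rw [C.phi_eq hg e, map_mul, map_mul, map_inv, C.map_e1, El_conj _ (C.om_o (supp_ve C.hp)),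
    (C.G_fix hg).1, e]

theorem phi_conj {g : K} (hg : g ∈ C.G1) {u : Vc N F} (hu : Supp P u) :
    g * C.phi u * g⁻¹ = C.phi (act (π g) u) := by
  by_cases hne : u = 0
  · subst hne; rw [act_zero, C.phi_zero, mul_one, mul_inv_cancel]
  obtain ⟨h, hh, e⟩ := C.exists_rep hu hne
  rw [C.phi_eq hh e, C.phi_eq (mul_mem hg hh) (by rw [map_mul, act_mul, e])]
  group

theorem phi_p (t : F) : C.phi (t • ve p) ∈ C.M := by
  by_cases ht : t = 0
  · rw [ht, zero_smul, C.phi_zero]; exact one_mem _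
  obtain ⟨A, hA, e⟩ := exists_move (P := (· = p)) (supp_ve_self _) (supp_smul t (supp_ve_self _))
    (ve_ne_zero (F := F) p) (smul_ne_zero ht (ve_ne_zero p))
  obtain ⟨h, hh, rfl⟩ := C.exists_Sp hA
  obtain ⟨y, hy, ey⟩ := C.exists_M (El_ve_mem_DM (Or.inl rfl) ⟨t, rfl⟩ 0)
  have hP := C.map_phi (supp_smul t (supp_ve C.hp))
  rw [C.phi_eq (C.sp_le hh) e] at hP ⊢
  rwa [C.injB.eq (mul_mem (mul_mem (C.Sp_RB hh) (C.M_RB C.e1_mem)) (inv_mem (C.Sp_RB hh))) (C.M_RB hy)
    (hP.trans ey.symm)]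

theorem phi_plane {u : Vc N F} (hu : Supp (· = p) u) : C.phi u ∈ C.RB := by
  by_cases hne : u = 0
  · rw [hne, C.phi_zero]; exact one_mem _
  obtain ⟨A, hA, e⟩ := exists_move (P := (· = p)) (supp_ve_self _) hu (ve_ne_zero p) hne
  obtain ⟨h, hh, rfl⟩ := C.exists_Sp hA
  rw [C.phi_eq (C.sp_le hh) e]
  exact mul_mem (mul_mem (C.Sp_RB hh) (C.M_RB C.e1_mem)) (inv_mem (C.Sp_RB hh))

theorem supp_plane {u : Vc N F} (hu : Supp (· = p) u) : Supp P u := fun k hk =>
  hu k fun e => hk (e ▸ C.hp)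

theorem ez_comm {g : K} (hg : g ∈ C.G1) (z : F) : g * C.ez z * g⁻¹ = C.ez z := by
  rw [(C.comm g hg _ (C.ez_mem z)).eq, mul_inv_cancel_right]

theorem ez_phi {u : Vc N F} (hu : Supp P u) (z : F) : Commute (C.ez z) (C.phi u) := by
  by_cases hne : u = 0
  · rw [hne, C.phi_zero]; exact Commute.one_right _
  obtain ⟨g, hg, e⟩ := C.exists_rep hu hne
  have h1 : Commute (C.ez z) C.e1 := C.injA.eq
    (mul_mem (C.S_RA (C.ez_mem z)) (C.M_RA C.e1_mem)) (mul_mem (C.M_RA C.e1_mem) (C.S_RA (C.ez_mem z))) (by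
      rw [map_mul, map_mul, C.map_ez, C.map_e1,
        El_mul (om_zero_right _) (C.om_o (supp_ve C.hp)), El_mul (C.om_o (supp_ve C.hp)) (om_zero_right _),
        om_zero_left, om_zero_right, zero_add (ve p : Vc N F), add_zero (ve p : Vc N F)]
      simp only [add_zero, zero_add])
  have hgc := (C.comm g hg _ (C.ez_mem z)).symm
  rw [C.phi_eq hg e]
  exact (hgc.mul_right h1).mul_right hgc.inv_right

/-- The additivity transported along the group. -/
theorem add_transport {g : K} (hg : g ∈ C.G1) {a b : Vc N F} (ha : Supp P a) (hb : Supp P b)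
    (h : C.phi a * C.phi b = C.phi (a + b) * C.ez (om a b)) :
    C.phi (act (π g) a) * C.phi (act (π g) b) =
      C.phi (act (π g) a + act (π g) b) * C.ez (om (act (π g) a) (act (π g) b)) := by
  rw [← act_add, om_act, ← C.phi_conj hg ha, ← C.phi_conj hg hb, ← C.phi_conj hg (supp_add ha hb),
    show g * C.phi a * g⁻¹ * (g * C.phi b * g⁻¹) = g * (C.phi a * C.phi b) * g⁻¹ by group, h]
  nth_rw 2 [← C.ez_comm hg (om a b)]
  group

theorem add_plane {a b : Vc N F} (ha : Supp (· = p) a) (hb : Supp (· = p) b) :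
    C.phi a * C.phi b = C.phi (a + b) * C.ez (om a b) := by
  have ha' := C.supp_plane ha
  have hb' := C.supp_plane hb
  refine C.injB.eq (mul_mem (C.phi_plane ha) (C.phi_plane hb))
    (mul_mem (C.phi_plane (supp_add ha hb)) (C.M_RB (C.ez_mem_M _))) ?_
  rw [map_mul, map_mul, C.map_phi ha', C.map_phi hb', C.map_phi (supp_add ha' hb'), C.map_ez,
    El_mul (C.om_o ha') (C.om_o hb'), El_mul (C.om_o (supp_add ha' hb')) (om_zero_right _),
    add_zero (a + b), om_zero_right, add_zero, zero_add, add_zero]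

theorem add_of_ne {u v : Vc N F} (hu : Supp P u) (hv : Supp P v) (h : om u v ≠ 0) :
    C.phi u * C.phi v = C.phi (u + v) * C.ez (om u v) := by
  obtain ⟨A, hA, e1, e2⟩ := exists_move_pair (supp_ve C.hp) (supp_vf C.hp) hu
    (supp_smul (om u v)⁻¹ hv) (om_ve_vf p) (by rw [om_smul_right, inv_mul_cancel₀ h])
  obtain ⟨g, hg, rfl⟩ := C.exists_G hA
  have e3 : act (π g) (om u v • vf p) = v := by rw [act_smul, e2, smul_inv_smul₀ h]
  have := C.add_transport hg (supp_ve C.hp) (supp_smul (om u v) (supp_vf C.hp))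
    (C.add_plane (supp_ve_self _) (supp_smul _ (supp_vf_self _)))
  rwa [e1, e3] at this

variable (hF : ∃ a : F, a ≠ 0 ∧ a ≠ 1)
include hF

/-- The root elements form a Heisenberg group. -/
theorem phi_add {u v : Vc N F} (hu : Supp P u) (hv : Supp P v) :
    C.phi u * C.phi v = C.phi (u + v) * C.ez (om u v) := by
  by_cases h : om u v = 0
  swap
  · exact C.add_of_ne hu hv h
  by_cases hu0 : u = 0
  · rw [hu0, C.phi_zero, one_mul, zero_add, om_zero_left, C.ez_zero, mul_one]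
  by_cases hdep : ∃ k : F, v = k • u
  · obtain ⟨k, rfl⟩ := hdep
    obtain ⟨g, hg, rfl⟩ := C.exists_rep hu hu0
    rw [← act_smul]
    exact C.add_transport hg (supp_ve C.hp) (supp_smul k (supp_ve C.hp))
      (C.add_plane (supp_ve_self _) (supp_smul k (supp_ve_self _)))
  push Not at hdep
  obtain ⟨a, ha0, ha1⟩ := hF
  obtain ⟨c, hc, h1, h2⟩ := exists_pair_values hu hv hu0 hdep (-a)
  have hs := supp_sub hv hc
  have e1 : C.phi (v - c) * C.phi c = C.phi v * C.ez (-a) := by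
    have e : om (v - c) c = -a := by rw [om_sub_left, om_self, sub_zero, h2]
    rw [C.add_of_ne hs hc (by rw [e]; exact neg_ne_zero.2 ha0), sub_add_cancel, e]
  have e2 : C.phi u * C.phi (v - c) = C.phi (u + (v - c)) * C.ez (-1) := by
    have e : om u (v - c) = -1 := by rw [om_sub_right, h, h1, zero_sub]
    rw [C.add_of_ne hu hs (by rw [e]; exact neg_ne_zero.2 one_ne_zero), e]
  have e3 : C.phi (u + (v - c)) * C.phi c = C.phi (u + v) * C.ez (1 - a) := by
    have e : om (u + (v - c)) c = 1 - a := by rw [om_add_left, om_sub_left, om_self, h1, h2]; ring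
    rw [C.add_of_ne (supp_add hu hs) hc (by rw [e]; exact sub_ne_zero.2 ha1.symm), e,
      show u + (v - c) + c = u + v by abel]
  have hz := C.ez_phi hc (-1)
  refine mul_right_cancel (b := C.ez (-a)) ?_
  rw [mul_assoc, ← e1, ← mul_assoc, e2, mul_assoc, hz.eq, ← mul_assoc, e3, mul_assoc, C.ez_add,
    mul_assoc, C.ez_add, h]
  congr 2
  ring

theorem phi_inv {u : Vc N F} (hu : Supp P u) : (C.phi u)⁻¹ = C.phi (-u) := by
  refine inv_eq_of_mul_eq_one_right ?_
  rw [C.phi_add hF hu (supp_neg hu), add_neg_cancel, om_neg_right, om_self, neg_zero, C.phi_zero,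
    C.ez_zero, one_mul]

/-- The unipotent radical of the stabiliser. -/
noncomputable def U : Subgroup K where
  carrier := {x | ∃ u, Supp P u ∧ ∃ z, x = C.phi u * C.ez z}
  one_mem' := ⟨0, supp_zero, 0, by rw [C.phi_zero, C.ez_zero, mul_one]⟩
  mul_mem' := by
    rintro _ _ ⟨u, hu, z, rfl⟩ ⟨v, hv, z', rfl⟩
    refine ⟨u + v, supp_add hu hv, om u v + (z + z'), ?_⟩
    rw [mul_assoc, ← mul_assoc (C.ez z), (C.ez_phi hv z).eq, mul_assoc (C.phi v), C.ez_add, ← mul_assoc,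
      C.phi_add hF hu hv, mul_assoc, C.ez_add]
  inv_mem' := by
    rintro _ ⟨u, hu, z, rfl⟩
    refine ⟨-u, supp_neg hu, -z, inv_eq_of_mul_eq_one_right ?_⟩
    rw [mul_assoc, ← mul_assoc (C.ez z), (C.ez_phi (supp_neg hu) z).eq, mul_assoc, C.ez_add,
      add_neg_cancel, C.ez_zero, mul_one, ← C.phi_inv hF hu, mul_inv_cancel]

theorem phi_mem_U {u : Vc N F} (hu : Supp P u) : C.phi u ∈ C.U hF :=
  ⟨u, hu, 0, by rw [C.ez_zero, mul_one]⟩

theorem ez_mem_U (z : F) : C.ez z ∈ C.U hF := ⟨0, supp_zero, z, by rw [C.phi_zero, one_mul]⟩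

theorem conj_U {g : K} (hg : g ∈ C.G1) {n : K} (hn : n ∈ C.U hF) : g * n * g⁻¹ ∈ C.U hF := by
  obtain ⟨u, hu, z, rfl⟩ := hn
  refine ⟨act (π g) u, supp_act (C.G_Fx hg) hu, z, ?_⟩
  rw [← C.phi_conj hg hu]
  nth_rw 2 [← C.ez_comm hg z]
  group

/-- The stabiliser. -/
noncomputable def Q : Subgroup K where
  carrier := {x | ∃ g ∈ C.G1, ∃ n ∈ C.U hF, x = g * n}
  one_mem' := ⟨1, one_mem _, 1, one_mem _, (one_mul _).symm⟩
  mul_mem' := by
    rintro _ _ ⟨g, hg, n, hn, rfl⟩ ⟨g', hg', n', hn', rfl⟩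
    refine ⟨g * g', mul_mem hg hg', g'⁻¹ * n * g'⁻¹⁻¹ * n',
      mul_mem (C.conj_U hF (inv_mem hg') hn) hn', ?_⟩
    group
  inv_mem' := by
    rintro _ ⟨g, hg, n, hn, rfl⟩
    exact ⟨g⁻¹, inv_mem hg, g * n⁻¹ * g⁻¹, C.conj_U hF hg (inv_mem hn), by group⟩

theorem G_Q {x : K} (hx : x ∈ C.G1) : x ∈ C.Q hF := ⟨x, hx, 1, one_mem _, (mul_one x).symm⟩

theorem U_Q {x : K} (hx : x ∈ C.U hF) : x ∈ C.Q hF := ⟨1, one_mem _, x, hx, (one_mul x).symm⟩

theorem Q_fix {x : K} (hx : x ∈ C.Q hF) : act (π x) (ve o) = ve o := by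
  obtain ⟨g, hg, _, ⟨u, hu, z, rfl⟩, rfl⟩ := hx
  rw [map_mul, map_mul, C.map_phi hu, C.map_ez, act_mul, act_mul, (C.act_o supp_zero z).1,
    (C.act_o hu 0).1, (C.G_fix hg).1]

theorem inj_Q : Inj π (C.Q hF) := by
  rintro _ ⟨g, hg, _, ⟨u, hu, z, rfl⟩, rfl⟩ he
  have h := congrArg (fun A => act A (vf o)) he
  simp only [act_one, map_mul, C.map_phi hu, C.map_ez, act_mul] at h
  rw [(C.act_o supp_zero z).2, add_zero, act_add, act_smul, (C.act_o hu 0).1, (C.act_o hu 0).2,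
    zero_smul, add_zero, act_add, act_add, act_smul, (C.G_fix hg).1, (C.G_fix hg).2] at h
  obtain ⟨v, hv⟩ : ∃ v, v = act (π g) u := ⟨_, rfl⟩
  have hvs : Supp P v := hv ▸ supp_act (C.G_Fx hg) hu
  rw [← hv] at h
  have hz : z = 0 := by
    have := congrFun h (Sum.inl o)
    simpa [ve, vf, (hvs o C.ho).1] using this
  subst hz
  rw [zero_smul, add_zero, add_eq_left] at h
  have hu0 : u = 0 := by rw [← act_inv_cancel (π g) u, ← hv, h, act_zero]
  subst hu0
  rw [C.phi_zero, C.ez_zero, mul_one, mul_one] at he ⊢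
  exact C.injG g hg he

/-- The stabiliser in the matrix group comes from `Q`. -/
theorem exists_Q {A : Spg N F} (hA : A ∈ Fx (fun k => P k ∨ k = o)) (he : act A (ve o) = ve o) :
    ∃ x ∈ C.Q hF, π x = A := by
  classical
  obtain ⟨a, ha⟩ : ∃ a, a = act A (vf o) := ⟨_, rfl⟩
  have hao : a (Sum.inr o) = 1 := by
    rw [ha, act_fix_of_inl A he]; simp [vf]
  have haz : ∀ k, ¬P k → k ≠ o → a (Sum.inl k) = 0 ∧ a (Sum.inr k) = 0 := fun k hk hko => by
    obtain ⟨h1, h2⟩ := hA k (not_or.2 ⟨hk, hko⟩)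
    rw [ha, act_fix_of_inr A h2, act_fix_of_inl A h1]
    simp [vf, hko]
  obtain ⟨u, hu⟩ : ∃ u, u = a - vf o - a (Sum.inl o) • ve o := ⟨_, rfl⟩
  have hus : Supp P u := fun k hk => by
    by_cases hko : k = o
    · subst hko; rw [hu]; simp [ve, vf, hao]
    · rw [hu]; simp [ve, vf, hko, (haz k hk hko).1, (haz k hk hko).2]
  obtain ⟨n, hn, hnπ⟩ : ∃ n ∈ C.U hF, π n = El (ve o) u (a (Sum.inl o)) := by
    refine ⟨C.phi u * C.ez (a (Sum.inl o)), ⟨u, hus, _, rfl⟩, ?_⟩
    rw [map_mul, C.map_phi hus, C.map_ez, El_mul (C.om_o hus) (om_zero_right _), add_zero u,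
      om_zero_right, zero_add, add_zero]
  have hE : act (π n) (vf o) = a := by
    rw [hnπ, (C.act_o hus _).2, hu]; abel
  have hEe : act (π n) (ve o) = ve o := by rw [hnπ, (C.act_o hus _).1]
  have hEF : π n ∈ Fx (fun k => P k ∨ k = o) := by
    rw [hnπ]; exact El_mem_Fx (supp_ve (Or.inr rfl)) (fun k hk => hus k fun h => hk (Or.inl h)) _
  obtain ⟨g, hg, hgπ⟩ := C.exists_G (A := (π n)⁻¹ * A) (fun k hk => by
    by_cases hko : k = o
    · subst hko
      exact ⟨by rw [act_mul, he]; exact act_inv_eq hEe, by rw [act_mul, ← ha]; exact act_inv_eq hE⟩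
    · exact mul_mem (inv_mem hEF) hA k (not_or.2 ⟨hk, hko⟩))
  exact ⟨n * g, mul_mem (C.U_Q hF hn) (C.G_Q hF hg), by rw [map_mul, hgπ, mul_inv_cancel_left]⟩

theorem RB_Q {x : K} (hx : x ∈ C.RB) : x ∈ C.Q hF := by
  suffices h : C.M ≤ C.Q hF from
    (sup_le h (fun y hy => C.G_Q hF (C.sp_le hy)) : C.RB ≤ C.Q hF) hx
  intro m hm
  have hA : π m ∈ DM o p := C.mapM.le ⟨m, hm, rfl⟩
  obtain ⟨a, ha⟩ : ∃ a, a = act (π m) (vf o) := ⟨_, rfl⟩
  obtain ⟨b, hb⟩ : ∃ b, b = act (π m) (vf p) := ⟨_, rfl⟩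
  have hinr : ∀ v k, act (π m) v (Sum.inr k) = v (Sum.inr k) := fun v k => act_fix_of_inl _ (hA.1 k) v
  have hinl : ∀ v k, k ≠ o → k ≠ p → act (π m) v (Sum.inl k) = v (Sum.inl k) := fun v k h1 h2 =>
    act_fix_of_inr _ (hA.2 k h1 h2) v
  have hq : b (Sum.inl o) = a (Sum.inl p) := by
    have h := om_act (π m) (vf o) (vf p)
    rw [← ha, ← hb] at h
    have e1 : a = vf o + a (Sum.inl o) • ve o + a (Sum.inl p) • ve p := by
      funext i
      rcases i with k | k
      · by_cases k1 : k = o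
        · subst k1; simp [ve, vf, C.hne]
        by_cases k2 : k = p
        · subst k2; simp [ve, vf, C.hne.symm]
        · rw [ha, hinl _ k k1 k2]; simp [ve, vf, k1, k2]
      · rw [ha, hinr]; simp [ve, vf]
    rw [e1, om_add_left, om_add_left, om_smul_left, om_smul_left, om_vf_left, om_ve_left, om_ve_left,
      om_vf_left] at h
    rw [hb, hinr, hinr] at h
    rw [hb]
    simp [vf, C.hne] at h ⊢
    linear_combination -h
  obtain ⟨y, hy, eyπ⟩ := C.exists_M (A := El (ve p) 0 (b (Sum.inl p)))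
    (El_ve_mem_DM (Or.inr rfl) ⟨0, (zero_smul F _).symm⟩ _)
  obtain ⟨s, hs, esπ⟩ := C.exists_Sp (A := El (ve p) 0 (b (Sum.inl p)))
    (El_mem_Fx (supp_ve_self _) supp_zero _)
  have hys : y = s := C.injB.eq (C.M_RB hy) (C.Sp_RB hs) (eyπ.trans esπ.symm)
  have hsup : Supp P (a (Sum.inl p) • ve p : Vc N F) := supp_smul _ (supp_ve C.hp)
  have e : m = C.phi (a (Sum.inl p) • ve p) * C.ez (a (Sum.inl o)) * s := by
    refine C.injA.eq (C.M_RA hm)
      (mul_mem (mul_mem (C.M_RA (C.phi_p _)) (C.M_RA (C.ez_mem_M _))) (C.M_RA (hys ▸ hy))) ?_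
    rw [map_mul, map_mul, C.map_phi hsup, C.map_ez, esπ,
      El_mul (C.om_o hsup) (om_zero_right _), add_zero (a (Sum.inl p) • ve p), om_zero_right,
      zero_add, add_zero]
    have ep : act (El (ve p) 0 (b (Sum.inl p))) (ve o) = (ve o : Vc N F) := by
      rw [act_El_zero, om_ve_left]; simp [ve]
    refine act_ext_basis (fun k => ?_) fun k => ?_
    · rw [hA.1, act_mul, act_El_zero, om_ve_left, act_El (C.om_o hsup)]
      simp only [om_add_right, om_smul_right, om_smul_left, om_ve_left]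
      simp [ve]
    · have key : act (El (ve o) (a (Sum.inl p) • ve p) (a (Sum.inl o)) * El (ve p) 0 (b (Sum.inl p))) (vf k) =
          (vf k : Vc N F) + (if k = o then a (Sum.inl p) • ve p + a (Sum.inl o) • ve o else 0) +
            (if k = p then a (Sum.inl p) • ve o + b (Sum.inl p) • ve p else 0) := by
        rw [act_mul, act_El_zero, om_ve_left, act_El (C.om_o hsup)]
        simp only [om_add_right, om_smul_right, om_smul_left, om_ve_left]
        by_cases k1 : k = o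
        · subst k1; simp [ve, vf, C.hne, C.hne.symm]; module
        by_cases k2 : k = p
        · subst k2; simp [ve, vf, C.hne, C.hne.symm]; module
        · simp [ve, vf, k1, k2, Ne.symm k1, Ne.symm k2]
      rw [key]
      funext i
      rcases i with j | j
      · by_cases k1 : k = o
        · subst k1
          by_cases j1 : j = k
          · subst j1; simp [ha, ve, vf, C.hne]
          by_cases j2 : j = p
          · subst j2; simp [ha, ve, vf, C.hne, C.hne.symm]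
          · rw [hinl _ j j1 j2]; simp [ve, vf, C.hne, j1, j2]
        by_cases k2 : k = p
        · subst k2
          by_cases j1 : j = o
          · subst j1
            simp [ve, vf, C.hne, C.hne.symm, ← hq, hb]
          by_cases j2 : j = k
          · subst j2; simp [hb, ve, vf, C.hne.symm]
          · rw [hinl _ j j1 j2]; simp [ve, vf, C.hne.symm, j1, j2]
        · rw [hA.2 k k1 k2]; simp [k1, k2]
      · rw [hinr]
        split_ifs <;> simp [ve]
  rw [e]
  exact mul_mem (mul_mem (C.U_Q hF (C.phi_mem_U hF hsup)) (C.U_Q hF (C.ez_mem_U hF _)))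
    (C.G_Q hF (C.sp_le hs))

theorem M_Q {x : K} (hx : x ∈ C.M) : x ∈ C.Q hF := C.RB_Q hF (C.M_RB hx)

theorem RA_Q {x : K} (hx : x ∈ C.RA) (he : act (π x) (ve o) = ve o) : x ∈ C.Q hF := by
  obtain ⟨h1, h2⟩ := C.RA_fix hx
  have hA : π x ∈ DM o p := by
    refine ⟨fun k => ?_, fun k hk1 hk2 => (h1 k (not_or.2 ⟨hk1, hk2⟩)).2⟩
    by_cases k1 : k = o
    · exact k1 ▸ he
    by_cases k2 : k = p
    · exact k2 ▸ h2
    · exact (h1 k (not_or.2 ⟨k1, k2⟩)).1
  obtain ⟨m, hm, e⟩ := C.exists_M hA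
  rw [C.injA.eq hx (C.M_RA hm) e.symm]
  exact C.M_Q hF hm

end Ctx

end Cfsg.Agent.SlimSp
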