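import Mathlib

/-!
Unipotent elements and elementary transitivity of the symplectic group on its natural module.
-/

set_option autoImplicit false

open Matrix

namespace Cfsg.Agent.SlimSp

variable {N : ℕ} {F : Type*} [Field F]

/-- The vectors. -/
abbrev Vc (N : ℕ) (F : Type*) := Fin N ⊕ Fin N → F

/-- The symplectic group. -/
abbrev Spg (N : ℕ) (F : Type*) [Field F] := ↥(Matrix.symplecticGroup (Fin N) F)

/-- First half of the basis. -/
def ve (j : Fin N) : Vc N F := Pi.single (Sum.inl j) 1

/-- Second half of the basis. -/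
def vf (j : Fin N) : Vc N F := Pi.single (Sum.inr j) 1

/-- The alternating form. -/
def om (u v : Vc N F) : F := ∑ k, (u (Sum.inl k) * v (Sum.inr k) - u (Sum.inr k) * v (Sum.inl k))

theorem om_swap (u v : Vc N F) : om u v = -om v u := by
  simp only [om, ← Finset.sum_neg_distrib]
  exact Finset.sum_congr rfl fun k _ => by ring

theorem om_self (u : Vc N F) : om u u = 0 :=
  Finset.sum_eq_zero fun k _ => by ring

theorem om_add_left (u u' v : Vc N F) : om (u + u') v = om u v + om u' v := by
  simp only [om, ← Finset.sum_add_distrib, Pi.add_apply]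
  exact Finset.sum_congr rfl fun k _ => by ring

theorem om_smul_left (c : F) (u v : Vc N F) : om (c • u) v = c * om u v := by
  simp only [om, Finset.mul_sum, Pi.smul_apply, smul_eq_mul]
  exact Finset.sum_congr rfl fun k _ => by ring

theorem om_add_right (u v v' : Vc N F) : om u (v + v') = om u v + om u v' := by
  rw [om_swap u, om_add_left, om_swap v, om_swap v']; ring

theorem om_smul_right (c : F) (u v : Vc N F) : om u (c • v) = c * om u v := by
  rw [om_swap u, om_smul_left, om_swap v]; ring

theorem om_neg_left (u v : Vc N F) : om (-u) v = -om u v := by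
  rw [show -u = (-1 : F) • u by rw [neg_one_smul], om_smul_left]; ring

theorem om_neg_right (u v : Vc N F) : om u (-v) = -om u v := by
  rw [om_swap u, om_neg_left, om_swap u]

theorem om_sub_left (u u' v : Vc N F) : om (u - u') v = om u v - om u' v := by
  rw [sub_eq_add_neg, om_add_left, om_neg_left]; ring

theorem om_sub_right (u v v' : Vc N F) : om u (v - v') = om u v - om u v' := by
  rw [sub_eq_add_neg, om_add_right, om_neg_right]; ring

theorem om_zero_left (v : Vc N F) : om 0 v = 0 := by simp [om]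

theorem om_zero_right (v : Vc N F) : om v 0 = 0 := by simp [om]

theorem om_ve_left (j : Fin N) (v : Vc N F) : om (ve j) v = v (Sum.inr j) := by
  simp [om, ve, Pi.single_apply]

theorem om_vf_left (j : Fin N) (v : Vc N F) : om (vf j) v = -v (Sum.inl j) := by
  simp [om, vf, Pi.single_apply]

theorem om_ve_right (j : Fin N) (v : Vc N F) : om v (ve j) = -v (Sum.inr j) := by
  rw [om_swap, om_ve_left]

theorem om_vf_right (j : Fin N) (v : Vc N F) : om v (vf j) = v (Sum.inl j) := by
  rw [om_swap, om_vf_left, neg_neg]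

theorem J_dot (u v : Vc N F) : u ⬝ᵥ (J (Fin N) F *ᵥ v) = -om u v := by
  simp only [J, fromBlocks_mulVec, dotProduct, Fintype.sum_sum_type, om, ← Finset.sum_neg_distrib,
    ← Finset.sum_add_distrib]
  refine Finset.sum_congr rfl fun k _ => ?_
  simp [Matrix.neg_mulVec]
  ring

theorem ext_dot {M M' : Matrix (Fin N ⊕ Fin N) (Fin N ⊕ Fin N) F}
    (h : ∀ u v : Vc N F, u ⬝ᵥ (M *ᵥ v) = u ⬝ᵥ (M' *ᵥ v)) : M = M' := by
  ext i j
  have := h (Pi.single i 1) (Pi.single j 1)
  simpa using this

/-- The action on vectors. -/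
def act (A : Spg N F) (v : Vc N F) : Vc N F := (A : Matrix (Fin N ⊕ Fin N) (Fin N ⊕ Fin N) F) *ᵥ v

theorem act_mul (A B : Spg N F) (v : Vc N F) : act (A * B) v = act A (act B v) := by
  simp [act, Matrix.mulVec_mulVec]

theorem act_one (v : Vc N F) : act (1 : Spg N F) v = v := by simp [act]

theorem act_inv_cancel (A : Spg N F) (v : Vc N F) : act A⁻¹ (act A v) = v := by
  rw [← act_mul, inv_mul_cancel, act_one]

theorem act_cancel_inv (A : Spg N F) (v : Vc N F) : act A (act A⁻¹ v) = v := by
  rw [← act_mul, mul_inv_cancel, act_one]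

theorem act_inv_eq {A : Spg N F} {v v' : Vc N F} (h : act A v = v') : act A⁻¹ v' = v := by
  rw [← h, act_inv_cancel]

theorem act_add (A : Spg N F) (u v : Vc N F) : act A (u + v) = act A u + act A v :=
  Matrix.mulVec_add _ _ _

theorem act_smul (A : Spg N F) (c : F) (v : Vc N F) : act A (c • v) = c • act A v :=
  Matrix.mulVec_smul _ _ _

theorem act_zero (A : Spg N F) : act A (0 : Vc N F) = 0 := Matrix.mulVec_zero _

theorem act_neg (A : Spg N F) (v : Vc N F) : act A (-v) = -act A v := Matrix.mulVec_neg _ _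

theorem act_ext {A B : Spg N F} (h : ∀ v, act A v = act B v) : A = B :=
  Subtype.ext (Matrix.ext_of_mulVec_single fun j => h _)

theorem act_ext_basis {A B : Spg N F} (he : ∀ k, act A (ve k) = act B (ve k))
    (hf : ∀ k, act A (vf k) = act B (vf k)) : A = B :=
  Subtype.ext (Matrix.ext_of_mulVec_single fun j => by
    rcases j with j | j
    · exact he j
    · exact hf j)

theorem om_act (A : Spg N F) (u v : Vc N F) : om (act A u) (act A v) = om u v := by
  have h := SymplecticGroup.mem_iff'.1 A.2
  have h1 := J_dot (act A u) (act A v)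
  rw [act, act, Matrix.mulVec_mulVec, Matrix.dotProduct_mulVec, Matrix.vecMul_mulVec,
    ← Matrix.mul_assoc, h, ← Matrix.dotProduct_mulVec, J_dot] at h1
  exact (neg_injective h1).symm

theorem act_fix_of_inl (A : Spg N F) {j : Fin N} (h : act A (ve j) = ve j) (v : Vc N F) :
    act A v (Sum.inr j) = v (Sum.inr j) := by
  have := om_act A (ve j) v
  rw [h, om_ve_left, om_ve_left] at this
  exact this

theorem act_fix_of_inr (A : Spg N F) {j : Fin N} (h : act A (vf j) = vf j) (v : Vc N F) :
    act A v (Sum.inl j) = v (Sum.inl j) := by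
  have := om_act A (vf j) v
  rw [h, om_vf_left, om_vf_left] at this
  exact neg_injective this

/-- The linear map of a unipotent element. -/
def eLin (e u : Vc N F) (z : F) : Vc N F →ₗ[F] Vc N F where
  toFun x := x + om e x • u + om u x • e + (z * om e x) • e
  map_add' x y := by simp only [om_add_right]; module
  map_smul' c x := by simp only [om_smul_right, RingHom.id_apply]; module

theorem eLin_preserves {e u : Vc N F} (h : om e u = 0) (z : F) (x y : Vc N F) :
    om (eLin e u z x) (eLin e u z y) = om x y := by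
  simp only [eLin, LinearMap.coe_mk, AddHom.coe_mk, om_add_left, om_add_right, om_smul_left,
    om_smul_right, om_self, h, om_swap u e, om_swap x e, om_swap x u]
  ring

theorem eLin_mem {e u : Vc N F} (h : om e u = 0) (z : F) :
    LinearMap.toMatrix' (eLin e u z) ∈ symplecticGroup (Fin N) F := by
  rw [SymplecticGroup.mem_iff']
  refine ext_dot fun x y => ?_
  have h1 := J_dot (eLin e u z x) (eLin e u z y)
  rw [eLin_preserves h z, ← J_dot, ← LinearMap.toMatrix'_mulVec (eLin e u z) x,
    ← LinearMap.toMatrix'_mulVec (eLin e u z) y, Matrix.mulVec_mulVec, Matrix.dotProduct_mulVec,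
    Matrix.vecMul_mulVec, ← Matrix.mul_assoc, ← Matrix.dotProduct_mulVec] at h1
  exact h1

open Classical in
/-- The unipotent element. -/
noncomputable def El (e u : Vc N F) (z : F) : Spg N F :=
  if h : om e u = 0 then ⟨LinearMap.toMatrix' (eLin e u z), eLin_mem h z⟩ else 1

theorem act_El {e u : Vc N F} (h : om e u = 0) (z : F) (x : Vc N F) :
    act (El e u z) x = x + om e x • u + om u x • e + (z * om e x) • e := by
  rw [El, dif_pos h, act]
  exact LinearMap.toMatrix'_mulVec _ x

theorem act_El_zero (e : Vc N F) (z : F) (x : Vc N F) :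
    act (El e 0 z) x = x + (z * om e x) • e := by
  rw [act_El (om_zero_right e), om_zero_left]; module

theorem El_conj (A : Spg N F) {e u : Vc N F} (h : om e u = 0) (z : F) :
    A * El e u z * A⁻¹ = El (act A e) (act A u) z := by
  refine act_ext fun x => ?_
  obtain ⟨y, rfl⟩ : ∃ y, x = act A y := ⟨act A⁻¹ x, (act_cancel_inv A x).symm⟩
  rw [act_mul, act_mul, act_inv_cancel, act_El h, act_El (by rw [om_act]; exact h), om_act, om_act,
    act_add, act_add, act_add, act_smul, act_smul, act_smul]

theorem El_mul {e u u' : Vc N F} (h : om e u = 0) (h' : om e u' = 0) (z z' : F) :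
    El e u z * El e u' z' = El e (u + u') (z + z' + om u u') := by
  refine act_ext fun x => ?_
  rw [act_mul, act_El h', act_El h, act_El (by rw [om_add_right, h, h', add_zero])]
  have hue : om u e = 0 := by rw [om_swap, h, neg_zero]
  simp only [om_add_left, om_add_right, om_smul_right, om_self, h', hue]
  module

theorem El_zero (e : Vc N F) : El e 0 0 = (1 : Spg N F) :=
  act_ext fun x => by rw [act_El_zero, act_one]; module

theorem El_inv {e u : Vc N F} (h : om e u = 0) (z : F) : (El e u z)⁻¹ = El e (-u) (-z) :=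
  inv_eq_of_mul_eq_one_right (by
    rw [El_mul h (by rw [om_neg_right, h, neg_zero]), om_neg_right, om_self, add_neg_cancel,
      add_neg_cancel, neg_zero, add_zero, El_zero])

theorem El_comm {e u : Vc N F} (h : om e u = 0) : El e u 0 = El u e 0 :=
  act_ext fun x => by
    rw [act_El h, act_El (by rw [om_swap, h, neg_zero])]
    module

theorem El_smul {e u : Vc N F} (h : om e u = 0) (c : F) : El (c • e) u 0 = El e (c • u) 0 :=
  act_ext fun x => by
    rw [act_El (by rw [om_smul_left, h, mul_zero]), act_El (by rw [om_smul_right, h, mul_zero])]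
    simp only [om_smul_left]
    module

theorem El_zero_smul (e : Vc N F) (c z : F) : El (c • e) 0 z = El e 0 (c * c * z) :=
  act_ext fun x => by rw [act_El_zero, act_El_zero, om_smul_left]; module

theorem El_neg_zero (e : Vc N F) (z : F) : El (-e) 0 z = El e 0 z := by
  rw [← neg_one_smul F e, El_zero_smul]; norm_num

theorem El_split {e u : Vc N F} (h : om e u = 0) (z : F) :
    El (e + u) 0 z = El e (z • u) z * El u 0 z := by
  have h' : om e (z • u) = 0 := by rw [om_smul_right, h, mul_zero]
  refine act_ext fun x => ?_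
  rw [act_mul, act_El_zero, act_El_zero, act_El h']
  simp only [om_add_left, om_add_right, om_smul_left, om_smul_right, om_self, h]
  module

/-- Vectors supported on the indices of `P`. -/
def Supp (P : Fin N → Prop) (v : Vc N F) : Prop :=
  ∀ k, ¬P k → v (Sum.inl k) = 0 ∧ v (Sum.inr k) = 0

/-- The elements fixing the planes of the indices outside `P`. -/
def Fx (P : Fin N → Prop) : Subgroup (Spg N F) where
  carrier := {A | ∀ k, ¬P k → act A (ve k) = ve k ∧ act A (vf k) = vf k}
  one_mem' k _ := ⟨act_one _, act_one _⟩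
  mul_mem' {A B} hA hB k hk := by
    simp [act_mul, (hA k hk).1, (hA k hk).2, (hB k hk).1, (hB k hk).2]
  inv_mem' {A} hA k hk := ⟨act_inv_eq (hA k hk).1, act_inv_eq (hA k hk).2⟩

theorem mem_Fx {P : Fin N → Prop} {A : Spg N F} :
    A ∈ Fx P ↔ ∀ k, ¬P k → act A (ve k) = ve k ∧ act A (vf k) = vf k := Iff.rfl

theorem Fx_mono {P P' : Fin N → Prop} (h : ∀ k, P k → P' k) : Fx (F := F) P ≤ Fx P' :=
  fun _ hA k hk => hA k fun hk' => hk (h k hk')

theorem supp_act {P : Fin N → Prop} {A : Spg N F} (hA : A ∈ Fx P) {v : Vc N F} (hv : Supp P v) :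
    Supp P (act A v) := fun k hk => by
  rw [act_fix_of_inr A (hA k hk).2, act_fix_of_inl A (hA k hk).1]
  exact hv k hk

theorem supp_ve {P : Fin N → Prop} {j : Fin N} (h : P j) : Supp P (ve j : Vc N F) := fun k hk => by
  have : k ≠ j := fun e => hk (e ▸ h)
  simp [ve, this]

theorem supp_vf {P : Fin N → Prop} {j : Fin N} (h : P j) : Supp P (vf j : Vc N F) := fun k hk => by
  have : k ≠ j := fun e => hk (e ▸ h)
  simp [vf, this]

theorem supp_zero {P : Fin N → Prop} : Supp P (0 : Vc N F) := fun _ _ => ⟨rfl, rfl⟩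

theorem supp_add {P : Fin N → Prop} {u v : Vc N F} (hu : Supp P u) (hv : Supp P v) : Supp P (u + v) :=
  fun k hk => by simp [(hu k hk).1, (hu k hk).2, (hv k hk).1, (hv k hk).2]

theorem supp_smul {P : Fin N → Prop} (c : F) {u : Vc N F} (hu : Supp P u) : Supp P (c • u) :=
  fun k hk => by simp [(hu k hk).1, (hu k hk).2]

theorem supp_neg {P : Fin N → Prop} {u : Vc N F} (hu : Supp P u) : Supp P (-u) :=
  fun k hk => by simp [(hu k hk).1, (hu k hk).2]

theorem supp_sub {P : Fin N → Prop} {u v : Vc N F} (hu : Supp P u) (hv : Supp P v) : Supp P (u - v) :=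
  sub_eq_add_neg u v ▸ supp_add hu (supp_neg hv)

theorem El_mem_Fx {P : Fin N → Prop} {e u : Vc N F} (he : Supp P e) (hu : Supp P u) (z : F) :
    El e u z ∈ Fx P := by
  by_cases h : om e u = 0
  swap
  · rw [El, dif_neg h]; exact one_mem _
  intro k hk
  constructor
  · rw [act_El h, om_ve_right, om_ve_right, (he k hk).2, (hu k hk).2]; module
  · rw [act_El h, om_vf_right, om_vf_right, (he k hk).1, (hu k hk).1]; module

theorem exists_one {P : Fin N → Prop} {u : Vc N F} (hu : Supp P u) (hne : u ≠ 0) :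
    ∃ v, Supp P v ∧ om u v = 1 := by
  obtain ⟨i, hi⟩ := Function.ne_iff.1 hne
  simp only [Pi.zero_apply] at hi
  rcases i with i | i
  · have hP : P i := by_contra fun h => hi (hu i h).1
    exact ⟨(u (Sum.inl i))⁻¹ • vf i, supp_smul _ (supp_vf hP), by
      rw [om_smul_right, om_vf_right, inv_mul_cancel₀ hi]⟩
  · have hP : P i := by_contra fun h => hi (hu i h).2
    exact ⟨(-u (Sum.inr i))⁻¹ • ve i, supp_smul _ (supp_ve hP), by
      rw [om_smul_right, om_ve_right, inv_mul_cancel₀ (neg_ne_zero.2 hi)]⟩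

/-- Two independent functionals take prescribed values. -/
theorem exists_pair_values {P : Fin N → Prop} {a b : Vc N F} (ha : Supp P a) (hb : Supp P b)
    (hne : a ≠ 0) (hind : ∀ k : F, b ≠ k • a) (l : F) :
    ∃ c, Supp P c ∧ om a c = 1 ∧ om b c = l := by
  obtain ⟨ca, hca, h1⟩ := exists_one ha hne
  obtain ⟨cb, hcb, h2, h3⟩ : ∃ cb, Supp P cb ∧ om a cb = 0 ∧ om b cb ≠ 0 := by
    by_contra hcon
    push Not at hcon
    have h0 : b - om b ca • a = 0 := by
      by_contra hne'
      obtain ⟨c, hc, e⟩ := exists_one (supp_sub hb (supp_smul _ ha)) hne'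
      have e' := hcon (c - om a c • ca) (supp_sub hc (supp_smul _ hca))
        (by rw [om_sub_right, om_smul_right, h1]; ring)
      rw [om_sub_right, om_smul_right] at e'
      rw [om_sub_left, om_smul_left] at e
      refine one_ne_zero (α := F) ?_
      linear_combination -e + e'
    exact hind (om b ca) (sub_eq_zero.1 h0)
  refine ⟨ca + ((l - om b ca) / om b cb) • cb, supp_add hca (supp_smul _ hcb), ?_, ?_⟩
  · rw [om_add_right, om_smul_right, h1, h2]; ring
  · rw [om_add_right, om_smul_right, div_mul_cancel₀ _ h3]; ring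

/-- One transvection moves a vector to one not orthogonal to it. -/
theorem move_single {P : Fin N → Prop} {u u' : Vc N F} (hu : Supp P u) (hu' : Supp P u')
    (h : om u u' ≠ 0) :
    ∃ A ∈ Fx (F := F) P, act A u = u' ∧ ∀ x, om (u' - u) x = 0 → act A x = x := by
  refine ⟨El (u' - u) 0 (om (u' - u) u)⁻¹, El_mem_Fx (supp_sub hu' hu) supp_zero _, ?_, fun x hx => ?_⟩
  · rw [act_El_zero, inv_mul_cancel₀]
    · module
    · rw [om_sub_left, om_self, sub_zero, om_swap]
      exact neg_ne_zero.2 h
  · rw [act_El_zero, hx, mul_zero, zero_smul, add_zero]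

/-- Transitivity on non-zero vectors. -/
theorem exists_move {P : Fin N → Prop} {u u' : Vc N F} (hu : Supp P u) (hu' : Supp P u')
    (hne : u ≠ 0) (hne' : u' ≠ 0) : ∃ A ∈ Fx (F := F) P, act A u = u' := by
  by_cases h : om u u' = 0
  swap
  · obtain ⟨A, hA, e, -⟩ := move_single hu hu' h
    exact ⟨A, hA, e⟩
  obtain ⟨w1, hw1, e1⟩ := exists_one hu hne
  obtain ⟨w2, hw2, e2⟩ := exists_one hu' hne'
  obtain ⟨w, hw, h1, h2⟩ : ∃ w, Supp P w ∧ om u w ≠ 0 ∧ om w u' ≠ 0 := by
    by_cases c1 : om u' w1 = 0
    · by_cases c2 : om u w2 = 0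
      · refine ⟨w1 + w2, supp_add hw1 hw2, ?_, ?_⟩
        · rw [om_add_right, e1, c2, add_zero]; exact one_ne_zero
        · rw [om_swap, om_add_right, c1, e2, zero_add]; exact neg_ne_zero.2 one_ne_zero
      · exact ⟨w2, hw2, c2, by rw [om_swap, e2]; exact neg_ne_zero.2 one_ne_zero⟩
    · exact ⟨w1, hw1, by rw [e1]; exact one_ne_zero, by rw [om_swap]; exact neg_ne_zero.2 c1⟩
  obtain ⟨A, hA, eA, -⟩ := move_single hu hw h1
  obtain ⟨B, hB, eB, -⟩ := move_single hw hu' h2
  exact ⟨B * A, mul_mem hB hA, by rw [act_mul, eA, eB]⟩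

/-- Transitivity on pairs with form value one. -/
theorem exists_move_pair {P : Fin N → Prop} {u v u' v' : Vc N F} (hu : Supp P u) (hv : Supp P v)
    (hu' : Supp P u') (hv' : Supp P v') (h : om u v = 1) (h' : om u' v' = 1) :
    ∃ A ∈ Fx (F := F) P, act A u = u' ∧ act A v = v' := by
  have hne : ∀ {a b : Vc N F}, om a b = 1 → a ≠ 0 := fun e he => by
    rw [he, om_zero_left] at e; exact zero_ne_one e
  obtain ⟨A, hA, eA⟩ := exists_move hu hu' (hne h) (hne h')
  obtain ⟨w, hw⟩ : ∃ w, w = act A v := ⟨_, rfl⟩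
  have hws : Supp P w := hw ▸ supp_act hA hv
  have huw : om u' w = 1 := by rw [hw, ← eA, om_act, h]
  suffices ∃ B ∈ Fx (F := F) P, act B u' = u' ∧ act B w = v' by
    obtain ⟨B, hB, e1, e2⟩ := this
    exact ⟨B * A, mul_mem hB hA, by rw [act_mul, eA, e1], by rw [act_mul, ← hw, e2]⟩
  by_cases hwv : om w v' = 0
  swap
  · obtain ⟨B, hB, eB, hfix⟩ := move_single hws hv' hwv
    refine ⟨B, hB, hfix u' ?_, eB⟩
    rw [om_sub_left, om_swap v', h', om_swap w, huw, sub_self]
  obtain ⟨B, hB, eB, hfix⟩ := move_single hws (supp_add hws hu') (by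
    rw [om_add_right, om_self, om_swap, huw, zero_add]; exact neg_ne_zero.2 one_ne_zero)
  obtain ⟨C, hC, eC, hfix'⟩ := move_single (supp_add hws hu') hv' (by
    rw [om_add_left, hwv, h', zero_add]; exact one_ne_zero)
  refine ⟨C * B, mul_mem hC hB, ?_, by rw [act_mul, eB, eC]⟩
  rw [act_mul, hfix u' (by rw [add_sub_cancel_left, om_self]), hfix' u' ?_]
  rw [om_sub_left, om_add_left, om_self, om_swap v', h', om_swap w, huw]
  ring

end Cfsg.Agent.SlimSp
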